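import Groth.Agent.L09.Birat.Iso
import Groth.Agent.S10352

/-!
# Etale base change of birational morphisms
-/

universe u

open CategoryTheory CategoryTheory.Limits AlgebraicGeometry Opposite AlgSp Topology

set_option autoImplicit false
set_option linter.style.haveILetI false
set_option backward.isDefEq.respectTransparency false
set_option backward.isDefEq.respectTransparency.types false

namespace Groth.L09.Birat

open Groth.L23 Groth.L23.StLocal W4stk3decentspacesp2

theorem isIso_stalkMap_of_section {R V : Scheme.{u}} (q : R ⟶ V) (t : R)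
    (s : Spec (V.presheaf.stalk (q t)) ⟶ R) (hs : s ≫ q = V.fromSpecStalk (q t))
    (hu : ∀ {T : Scheme.{u}} (a : T ⟶ R) (c : T ⟶ Spec (V.presheaf.stalk (q t))),
      a ≫ q = c ≫ V.fromSpecStalk (q t) → a = c ≫ s) :
    IsIso (q.stalkMap t) := by
  have hft : R.fromSpecStalk t = Spec.map (q.stalkMap t) ≫ s :=
    hu _ _ (Scheme.SpecMap_stalkMap_fromSpecStalk q).symm
  have ht : s (IsLocalRing.closedPoint (V.presheaf.stalk (q t))) = t := by
    conv_rhs => rw [← Scheme.fromSpecStalk_closedPoint (x := t), hft, Scheme.Hom.comp_apply]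
    congr 1
    exact (IsLocalRing.comap_closedPoint (q.stalkMap t).hom).symm
  let σ : R.presheaf.stalk t ⟶ V.presheaf.stalk (q t) :=
    R.presheaf.stalkSpecializes (specializes_of_eq ht) ≫ Scheme.stalkClosedPointTo s
  have hσ : Spec.map σ ≫ R.fromSpecStalk t = s := by
    rw [Spec.map_comp, Category.assoc, Scheme.SpecMap_stalkSpecializes_fromSpecStalk,
      Scheme.Spec_stalkClosedPointTo_fromSpecStalk]
  refine ⟨σ, Spec.map_injective ?_, Spec.map_injective ?_⟩
  · rw [Spec.map_comp, Spec.map_id, ← cancel_mono (V.fromSpecStalk (q t)), Category.assoc,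
      Scheme.SpecMap_stalkMap_fromSpecStalk, ← Category.assoc, hσ, hs, Category.id_comp]
  · rw [Spec.map_comp, Spec.map_id, ← cancel_mono (R.fromSpecStalk t), Category.assoc, hσ, ← hft,
      Category.id_comp]

theorem exists_section_of_pullback {X0 Y0 R V0 : Scheme.{u}} {p : R ⟶ X0} {q0 : R ⟶ V0} {g0 : X0 ⟶ Y0}
    {m0 : V0 ⟶ Y0} (sq : IsPullback p q0 g0 m0) (v : V0)
    (hi : IsIso (pullback.snd g0 (Y0.fromSpecStalk (m0 v)))) :
    ∃ s : Spec (V0.presheaf.stalk v) ⟶ R, s ≫ q0 = V0.fromSpecStalk v ∧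
      ∀ {T : Scheme.{u}} (a : T ⟶ R) (c : T ⟶ Spec (V0.presheaf.stalk v)),
        a ≫ q0 = c ≫ V0.fromSpecStalk v → a = c ≫ s := by
  haveI := hi
  let κ := pullback.snd g0 (Y0.fromSpecStalk (m0 v))
  have hm : V0.fromSpecStalk v ≫ m0 = Spec.map (m0.stalkMap v) ≫ Y0.fromSpecStalk (m0 v) :=
    (Scheme.SpecMap_stalkMap_fromSpecStalk m0).symm
  let s := sq.lift (Spec.map (m0.stalkMap v) ≫ inv κ ≫ pullback.fst _ _) (V0.fromSpecStalk v) (by
    rw [Category.assoc, Category.assoc, pullback.condition, IsIso.inv_hom_id_assoc, hm])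
  refine ⟨s, sq.lift_snd _ _ _, fun {T} a c e => sq.hom_ext ?_ (by rw [Category.assoc, sq.lift_snd, e])⟩
  rw [Category.assoc, sq.lift_fst]
  let l := pullback.lift (f := g0) (g := Y0.fromSpecStalk (m0 v)) (a ≫ p) (c ≫ Spec.map (m0.stalkMap v))
    (by rw [Category.assoc, sq.w, reassoc_of% e, hm, Category.assoc])
  have hl : l = (c ≫ Spec.map (m0.stalkMap v)) ≫ inv κ := by
    rw [IsIso.eq_comp_inv]; exact pullback.lift_snd _ _ _
  calc a ≫ p = l ≫ pullback.fst _ _ := (pullback.lift_fst _ _ _).symm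
    _ = _ := by rw [hl]; simp

variable {S : Scheme.{u}} {X Y : AlgSp.Space S}

theorem finite_maxPt_affine (hY : IsDecent Y.obj) (hYf : (irreducibleComponents (Points Y.obj)).Finite) {V : Over S}
    [IsAffine V.left] {b : (yon S).obj V ⟶ Y.obj} (hb : RepWith @Etale b) : {v : V.left | IsMaxPt v}.Finite := by
  have hfib : ∀ y : Points Y.obj, (Points.ofPt b ⁻¹' {y}).Finite := fun y => by
    obtain ⟨m, hm, hmm, hq⟩ := hY y
    rw [← hm]
    exact (Pt.qc_iff_finite_fibres Y.property m).1 hq V b inferInstance hb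
  exact ((finite_maxPt hY hYf).biUnion fun y _ => hfib y).subset fun v hv =>
    Set.mem_biUnion ((maxPt_chart_iff hY hb v).2 hv) rfl

theorem isBirational_baseChange (f : X ⟶ Y) (hX : IsDecent X.obj) (hY : IsDecent Y.obj)
    (hXf : (irreducibleComponents (Points X.obj)).Finite) (hYf : (irreducibleComponents (Points Y.obj)).Finite)
    (hf : IsBirational f.hom) {V : Over S} [IsAffine V.left] (b : (yon S).obj V ⟶ Y.obj) (hb : RepWith @Etale b)
    {P : Sp S} (fst : P ⟶ X.obj) (snd : P ⟶ (yon S).obj V) (hP : IsPullback fst snd f.hom b) :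
    IsDecent P ∧ (irreducibleComponents (Points P)).Finite ∧
      (irreducibleComponents (Points ((yon S).obj V))).Finite ∧ IsBirational snd := by
  have hVs := IsAlgSpace.yon_obj V
  have hPs : IsAlgSpace P := isAlgSpace_of_isPullback Y.property.diag X.property hVs hP
  let PS : AlgSp.Space S := ⟨P, hPs⟩
  let VS : AlgSp.Space S := ⟨(yon S).obj V, hVs⟩
  let fP : PS ⟶ X := ObjectProperty.homMk fst
  let bV : VS ⟶ Y := ObjectProperty.homMk b
  have hbE : IsEtaleMor bV.hom := isEtaleMor_of_repWith hVs Y.property hb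
  have hfP : IsEtaleMor fP.hom := isEtaleMor_snd_of_isPullback hVs Y.property hPs X.property hP.flip hbE
  have hPd : IsDecent PS.obj := Groth.Agent.S10352.result fP hfP hX
  have hVd : IsDecent VS.obj := Groth.Agent.S10352.result bV hbE hY
  obtain ⟨Y0, X0, b0, a0, g0, hb0, ha0, hmY, hw, -, hmX, hbij, hiso⟩ := exists_model_max f hX hY hXf hYf hf
  obtain ⟨R, p, q, sqR⟩ := exists_isPullback_of_representable (Y.property.representable_from_yon (a0 ≫ f.hom)) b
  obtain ⟨V0, m0, iV, sqV⟩ := exists_isPullback_of_representable hb0.1 b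
  haveI : IsOpenImmersion iV.left := repWith_prop hb0 sqV
  haveI := mono_of_repWith_openImmersion hb0
  obtain ⟨q0, hq0₁, hq0₂⟩ := exists_lift_yon sqV (p ≫ g0) q (by
    rw [Functor.map_comp, Category.assoc, ← hw]; exact sqR.w)
  have sq0 : IsPullback ((yon S).map p) ((yon S).map q0) ((yon S).map g0) ((yon S).map m0) :=
    IsPullback.of_bot (by
      have := sqR
      rwa [← hq0₂, Functor.map_comp, hw] at this) (by rw [← Functor.map_comp, ← Functor.map_comp, hq0₁]) sqV
  have sq0' := (IsPullback.of_map (yon S) ((yon S).map_injective (by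
    rw [Functor.map_comp, Functor.map_comp]; exact sq0.w)) sq0).map (Over.forget S)
  let r : (yon S).obj R ⟶ P := hP.lift ((yon S).map p ≫ a0) ((yon S).map q) (by rw [Category.assoc]; exact sqR.w)
  have hr₁ : r ≫ fst = (yon S).map p ≫ a0 := hP.lift_fst _ _ _
  have hr₂ : r ≫ snd = (yon S).map q := hP.lift_snd _ _ _
  have sqr : IsPullback ((yon S).map p) r a0 fst := by
    refine IsPullback.of_bot ?_ hr₁.symm hP
    rw [hr₂]
    exact sqR
  have hr : RepWith @IsOpenImmersion r := repWith_of_isPullback sqr ha0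
  have hrange : ∀ z : Points P, IsMaxPt z → z ∈ Set.range (Points.ofPt r) := fun z hz => by
    obtain ⟨x, hx⟩ := hmX _ ((maxPt_etale_iff hX fP hfP z).2 hz)
    obtain ⟨w, -, hw'⟩ := exists_of_isPullback sqr (Points.ofScheme X0 x) z (by
      rw [← Points.ofPt_eq_map_ofScheme]; exact hx)
    obtain ⟨t, rfl⟩ := (Points.schemeEquiv R).surjective w
    exact ⟨t, by rw [← hw']; exact Points.ofPt_eq_map_ofScheme _ _⟩
  have hsec : ∀ v : V0.left, IsMaxPt (Points.ofPt b (iV.left v)) →
      ∃ s : Spec (V0.left.presheaf.stalk v) ⟶ R.left, s ≫ q0.left = V0.left.fromSpecStalk v ∧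
        ∀ {T : Scheme.{u}} (a : T ⟶ R.left) (c : T ⟶ Spec (V0.left.presheaf.stalk v)),
          a ≫ q0.left = c ≫ V0.left.fromSpecStalk v → a = c ≫ s := fun v hv => by
    refine exists_section_of_pullback sq0' v
      (Groth.L19.GenericIso.isIso_pullback_fromSpecStalk g0.left hbij hiso ((isMaxPt_iff _).1
        ((maxPt_chart_iff hY (repWith_etale_of_open hb0) (m0.left v)).1 ?_)))
    rwa [← ofPt_comp, sqV.w, ofPt_comp]
  have hkey : ∀ z : Points P, IsMaxPt z → IsMaxPt (Points.map snd z) ∧ IsMaxPt (Points.map b (Points.map snd z)) :=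
    fun z hz => by
    have h₁ : IsMaxPt (Points.map f.hom (Points.map fst z)) := (maxPt_iff hY _).2 (hf.bijOn.mapsTo
      ((maxPt_iff hX _).1 ((maxPt_etale_iff hX fP hfP z).2 hz)))
    rw [← Points.map_comp, hP.w, Points.map_comp] at h₁
    exact ⟨(maxPt_etale_iff hY bV hbE _).1 h₁, h₁⟩
  have hsnd : ∀ t : R.left, Points.map snd (Points.ofPt r t) = Points.ofScheme V (iV.left (q0.left t)) := fun t => by
    rw [Points.map_ofPt, hr₂, ofPt_map, ← hq0₂]
    rfl
  have hbmax : ∀ t : R.left, IsMaxPt (Points.ofPt r t) → IsMaxPt (Points.ofPt b (iV.left (q0.left t))) := fun t ht => by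
    have := (hkey _ ht).2
    rwa [hsnd, ← Points.ofPt_eq_map_ofScheme] at this
  have hbij' : Set.BijOn (Points.map snd) (genericPoints (Points P)) (genericPoints (Points ((yon S).obj V))) := by
    refine ⟨fun z hz => (maxPt_iff (X := VS) hVd _).1 (hkey z ((maxPt_iff (X := PS) hPd z).2 hz)).1, ?_, ?_⟩
    · intro z hz z' hz' e
      have hzm := (maxPt_iff (X := PS) hPd z).2 hz
      have hzm' := (maxPt_iff (X := PS) hPd z').2 hz'
      obtain ⟨t, rfl⟩ := hrange z hzm
      obtain ⟨t', rfl⟩ := hrange z' hzm'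
      rw [hsnd, hsnd] at e
      have he : q0.left t = q0.left t' := iV.left.isOpenEmbedding.injective ((Points.schemeEquiv V).injective e)
      obtain ⟨s, hs, hu⟩ := hsec _ (hbmax t hzm)
      congr 1
      have loc : ∀ t₀, q0.left t₀ = q0.left t → t₀ = s (IsLocalRing.closedPoint _) := fun t₀ h₀ => by
        have e₁ := hu (R.left.fromSpecStalk t₀)
          (Spec.map (V0.left.presheaf.stalkSpecializes (specializes_of_eq h₀) ≫ q0.left.stalkMap t₀)) (by
            rw [Spec.map_comp, Category.assoc, Scheme.SpecMap_stalkSpecializes_fromSpecStalk,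
              Scheme.SpecMap_stalkMap_fromSpecStalk])
        conv_lhs => rw [← Scheme.fromSpecStalk_closedPoint (x := t₀), e₁, Scheme.Hom.comp_apply]
        congr 1
        haveI : IsIso (V0.left.presheaf.stalkSpecializes (C := CommRingCat) (specializes_of_eq h₀)) :=
          (TopCat.Presheaf.stalkCongr V0.left.presheaf (Inseparable.of_eq h₀)).isIso_inv
        exact IsLocalRing.comap_closedPoint _
      rw [loc t rfl, loc t' he.symm]
    · intro v hv
      have hvm := (maxPt_iff (X := VS) hVd v).2 hv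
      obtain ⟨v', rfl⟩ := (Points.schemeEquiv V).surjective v
      have hbv : IsMaxPt (Points.ofPt b v') := by
        rw [Points.ofPt_eq_map_ofScheme]; exact (maxPt_etale_iff hY bV hbE _).2 hvm
      obtain ⟨y0, hy0⟩ := hmY _ hbv
      obtain ⟨v0, -, rfl⟩ := (ofPt_eq_ofPt_iff sqV y0 v').1 hy0
      obtain ⟨s, hs, -⟩ := hsec v0 hbv
      let t := s (IsLocalRing.closedPoint _)
      have ht : q0.left t = v0 := by
        rw [← Scheme.Hom.comp_apply, hs, Scheme.fromSpecStalk_closedPoint]
      refine ⟨Points.ofPt r t, (maxPt_iff (X := PS) hPd _).1 ((maxPt_etale_iff hX fP hfP _).1 ?_), ?_⟩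
      · have hz : Points.map f.hom (Points.ofPt (r ≫ fst) t) = Points.ofPt b0 (m0.left v0) := by
          rw [Points.map_ofPt, hr₁, Category.assoc, hw, ← Category.assoc, ← Functor.map_comp, ofPt_comp, ← hq0₁]
          show Points.ofPt b0 (m0.left (q0.left t)) = _
          rw [ht]
        have hmax : IsMaxPt (Points.ofPt b0 (m0.left v0)) := by rwa [← ofPt_comp, sqV.w, ofPt_comp]
        obtain ⟨ξ, -, hξ, e⟩ := fibre_eq f hX hY hb0 ha0 g0 hw (fun x hx _ => hmX x hx) hbij hiso hmax
          (z := Points.ofPt (r ≫ fst) t) (specializes_of_eq hz)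
        show IsMaxPt (Points.map fst (Points.ofPt r t))
        rw [Points.map_ofPt, e]
        exact hξ
      · rw [hsnd, ht]; rfl
  have hVfin : (irreducibleComponents (Points ((yon S).obj V))).Finite := by
    have := Pt.t0Space_of_isDecent hVs hVd
    have := Pt.quasiSober_of_isDecent hVs hVd
    refine finite_components (((finite_maxPt_affine hY hYf hb).image (Points.ofScheme V)).subset fun v hv => ?_)
    obtain ⟨v', rfl⟩ := (Points.schemeEquiv V).surjective v
    refine ⟨v', (maxPt_chart_iff hY hb v').1 ?_, rfl⟩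
    rw [Points.ofPt_eq_map_ofScheme]
    exact (maxPt_etale_iff hY bV hbE _).2 hv
  refine ⟨hPd, ?_, hVfin, ⟨hbij', fun z hz => ?_⟩⟩
  · have := Pt.t0Space_of_isDecent hPs hPd
    have := Pt.quasiSober_of_isDecent hPs hPd
    refine finite_components (Set.Finite.of_finite_image ?_ (fun z hz z' hz' e =>
      hbij'.injOn ((maxPt_iff (X := PS) hPd z).1 hz) ((maxPt_iff (X := PS) hPd z').1 hz') e))
    exact (finite_maxPt (X := VS) hVd hVfin).subset fun v ⟨z, hz, e⟩ => e ▸ (hkey z hz).1
  · have hzm := (maxPt_iff (X := PS) hPd z).2 hz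
    obtain ⟨t, rfl⟩ := hrange z hzm
    refine ⟨R, V, r, 𝟙 _, q, t, hr, repWith_of_isIso _, by rw [Category.comp_id, hr₂], rfl, ?_⟩
    obtain ⟨s, hs, hu⟩ := hsec _ (hbmax t hzm)
    have h₀ := isIso_stalkMap_of_section q0.left t s hs hu
    have e : q.left = q0.left ≫ iV.left := congrArg CommaMorphism.left hq0₂.symm
    rw [e, Scheme.Hom.stalkMap_comp]
    exact IsIso.comp_isIso' (inferInstance : IsIso (iV.left.stalkMap (q0.left t))) h₀

end Groth.L09.Birat
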