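import Groth.Prelude.Def_W4stk3decentspacesp2Birat
import Groth.Agent.L23.DimDecent
import Groth.Agent.L23.SchemeDecent
import Groth.Agent.L23.OpenSub
import Groth.Agent.L23.StLocal
import Groth.Agent.L19.GenericIso

/-!
# Generic points of decent spaces and scheme models of birational morphisms
-/

universe u v

open CategoryTheory CategoryTheory.Limits AlgebraicGeometry Opposite AlgSp Topology

set_option autoImplicit false
set_option linter.style.haveILetI false
set_option backward.isDefEq.respectTransparency.types false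

namespace Groth.L09.Birat

open Groth.L23

/-- A point without proper generalisations. -/
def IsMaxPt {A : Type v} [TopologicalSpace A] (x : A) : Prop := ∀ z, z ⤳ x → z = x

theorem isMaxPt_iff {A : Type v} [TopologicalSpace A] [T0Space A] [QuasiSober A] (x : A) :
    IsMaxPt x ↔ x ∈ genericPoints A := by
  constructor
  · intro h
    refine ⟨isIrreducible_singleton.closure, fun t ht hle => ?_⟩
    have hg := ht.closure.isGenericPoint_genericPoint isClosed_closure
    have e : ht.closure.genericPoint = x :=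
      h _ (hg.specializes (subset_closure (hle (subset_closure rfl))))
    rw [e] at hg
    intro z hz
    show z ∈ closure {x}
    rw [hg.def]
    exact subset_closure hz
  · intro h z hz
    have h₁ : closure ({x} : Set A) ⊆ closure {z} :=
      closure_minimal (Set.singleton_subset_iff.2 hz.mem_closure) isClosed_closure
    have h₂ := h.2 isIrreducible_singleton.closure h₁
    exact (hz.antisymm (specializes_iff_mem_closure.2 (h₂ (subset_closure rfl)))).eq

theorem exists_isMaxPt {A : Type v} [TopologicalSpace A] [T0Space A] [QuasiSober A] (z : A) :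
    ∃ x, IsMaxPt x ∧ x ⤳ z := by
  obtain ⟨x, hx⟩ := QuasiSober.sober (isIrreducible_irreducibleComponent (x := z)) isClosed_irreducibleComponent
  refine ⟨x, (isMaxPt_iff x).2 ?_, hx.specializes mem_irreducibleComponent⟩
  show closure {x} ∈ irreducibleComponents A
  rw [hx.def]
  exact irreducibleComponent_mem_irreducibleComponents z

theorem finite_components {A : Type v} [TopologicalSpace A] [T0Space A] [QuasiSober A]
    (h : {x : A | IsMaxPt x}.Finite) : (irreducibleComponents A).Finite := by
  refine (h.image fun x => closure ({x} : Set A)).subset fun T hT => ?_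
  obtain ⟨x, hx⟩ := QuasiSober.sober hT.1 (isClosed_of_mem_irreducibleComponents T hT)
  refine ⟨x, (isMaxPt_iff x).2 ?_, hx.def⟩
  show closure {x} ∈ irreducibleComponents A
  rw [hx.def]
  exact hT

variable {S : Scheme.{u}} {X Y : AlgSp.Space S}

theorem maxPt_iff (hX : IsDecent X.obj) (x : Points X.obj) : IsMaxPt x ↔ x ∈ genericPoints (Points X.obj) := by
  have := Pt.t0Space_of_isDecent X.property hX
  have := Pt.quasiSober_of_isDecent X.property hX
  exact isMaxPt_iff x

theorem exists_maxPt (hX : IsDecent X.obj) (z : Points X.obj) : ∃ x, IsMaxPt x ∧ x ⤳ z := by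
  have := Pt.t0Space_of_isDecent X.property hX
  have := Pt.quasiSober_of_isDecent X.property hX
  exact exists_isMaxPt z

theorem finite_maxPt (hX : IsDecent X.obj) (h : (irreducibleComponents (Points X.obj)).Finite) :
    {x : Points X.obj | IsMaxPt x}.Finite := by
  have := Pt.t0Space_of_isDecent X.property hX
  have := Pt.quasiSober_of_isDecent X.property hX
  exact (genericPoints.finite h).subset fun x hx => (isMaxPt_iff x).1 hx

/-- Maximal points correspond along etale charts of decent spaces. -/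
theorem maxPt_chart_iff (hX : IsDecent X.obj) {U : Over S} {a : (yon S).obj U ⟶ X.obj} (ha : RepWith @Etale a)
    (u : U.left) : IsMaxPt (Points.ofPt a u) ↔ IsMaxPt u := by
  constructor
  · intro h z hz
    exact Pt.ofPt_strict X.property hX ha z u hz (h _ (hz.map (Points.continuous_ofPt a)))
  · intro h z hz
    obtain ⟨v, hv, rfl⟩ := Pt.generalizingMap_ofPt X.property hX ha hz
    rw [h v hv]

/-- Maximal points correspond along etale morphisms of decent spaces. -/
theorem maxPt_etale_iff (hX : IsDecent X.obj) (f : Y ⟶ X) (hf : IsEtaleMor f.hom) (y : Points Y.obj) :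
    IsMaxPt (Points.map f.hom y) ↔ IsMaxPt y := by
  obtain ⟨V, b, hb, hbs⟩ := Y.property.atlas
  obtain ⟨v, rfl⟩ := surjective_ofPt hbs y
  rw [Points.map_ofPt, maxPt_chart_iff hX (hf b hb), maxPt_chart_iff (Groth.Agent.S10352.result f hf hX) hb]

theorem repWith_etale_of_open {F G : Sp S} {a : F ⟶ G} (ha : RepWith @IsOpenImmersion a) : RepWith @Etale a :=
  repWith_mono (fun f (_ : IsOpenImmersion f) => inferInstanceAs (Etale f)) ha

theorem injective_ofPt {U : Over S} {a : (yon S).obj U ⟶ X.obj} (ha : RepWith @IsOpenImmersion a) :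
    Function.Injective (Points.ofPt a) := by
  intro u u' e
  have h := injective_map_of_repWith (repWith_mono (Q := (@UniversallyInjective : MorphismProperty Scheme.{u}))
    (fun φ (_ : IsOpenImmersion φ) => inferInstanceAs (UniversallyInjective φ)) ha)
  rw [Points.ofPt_eq_map_ofScheme, Points.ofPt_eq_map_ofScheme] at e
  exact (Points.schemeEquiv U).injective (h e)

theorem isOpen_range_ofPt {U : Over S} {a : (yon S).obj U ⟶ X.obj} (ha : RepWith @IsOpenImmersion a) :
    IsOpen (Set.range (Points.ofPt a)) :=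
  (isOpenMap_ofPt (repWith_etale_of_open ha)).isOpen_range

theorem finite_maxPt_chart (hX : IsDecent X.obj) (h : (irreducibleComponents (Points X.obj)).Finite) {U : Over S}
    {a : (yon S).obj U ⟶ X.obj} (ha : RepWith @IsOpenImmersion a) : (irreducibleComponents U.left).Finite :=
  finite_components (((finite_maxPt hX h).preimage (injective_ofPt ha).injOn).subset
    fun u hu => (maxPt_chart_iff hX (repWith_etale_of_open ha) u).2 hu)

/-- Maximal points are schematic. -/
theorem schemePt_of_maxPt (hX : IsDecent X.obj) (hXf : (irreducibleComponents (Points X.obj)).Finite)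
    {x : Points X.obj} (h : IsMaxPt x) : SL.SchemePt x := by
  let C : Set (Points X.obj) := ⋃ y ∈ ({y : Points X.obj | IsMaxPt y} \ {x}), closure {y}
  have hC : IsClosed C := ((finite_maxPt hX hXf).subset Set.sdiff_subset).isClosed_biUnion fun _ _ => isClosed_closure
  have hxC : x ∉ C := by
    intro hx
    obtain ⟨y, ⟨hy, hne⟩, hxy⟩ := Set.mem_iUnion₂.1 hx
    exact hne (h y (specializes_iff_mem_closure.2 hxy))
  obtain ⟨z, hzC, hz⟩ := dense_iff_inter_open.1 (SL.dense_schemePt X.property hX) _ hC.isOpen_compl ⟨x, hxC⟩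
  obtain ⟨y, hy, hyz⟩ := exists_maxPt hX z
  have hyx : y = x := by
    by_contra hne
    exact hzC (Set.mem_iUnion₂.2 ⟨y, ⟨hy, hne⟩, hyz.mem_closure⟩)
  exact hyx ▸ hyz.mem_open SL.isOpen_schemePt hz

/-- An open subscheme with given points, all schematic. -/
theorem exists_openScheme (X : AlgSp.Space S) (O : Set (Points X.obj)) (hO : IsOpen O)
    (h : ∀ x ∈ O, SL.SchemePt x) :
    ∃ (U : Over S) (a : (yon S).obj U ⟶ X.obj), RepWith @IsOpenImmersion a ∧ Set.range (Points.ofPt a) = O := by
  let O' : TopologicalSpace.Opens (Points X.obj) := ⟨O, hO⟩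
  have hr : Set.range (Points.map (openSubι O')) = O := range_openSubι O'
  have hj := repWith_openSubι O'
  have := mono_of_repWith_openImmersion hj
  obtain ⟨G, θ, hθ⟩ := OpenCharts.exists_scheme_of_open_charts (isAlgSpace_openSub O' X.property) fun y => by
    obtain ⟨A, a, t, ha, hat⟩ := h _ (hr.le ⟨y, rfl⟩)
    obtain ⟨P, p, sq⟩ : ∃ (P : Over S) (p : P ⟶ A), ∃ fst, IsPullback fst ((yon S).map p) (openSubι O') a := by
      obtain ⟨fst, sq⟩ := isPullback_openSub O' a
      exact ⟨_, _, fst, sq⟩
    obtain ⟨fst, sq⟩ := sq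
    obtain ⟨w, hw, -⟩ := exists_point_of_isPullback sq hat.symm
    exact ⟨P, fst, w, repWith_of_isPullback sq.flip ha, hw⟩
  refine ⟨G, θ ≫ openSubι O', repWith_comp (repWith_of_isIso θ) hj, ?_⟩
  ext x
  rw [← hr]
  constructor
  · rintro ⟨g, rfl⟩
    exact ⟨Points.ofPt θ g, Points.map_ofPt _ _ _⟩
  · rintro ⟨y, rfl⟩
    obtain ⟨g, hg⟩ := surjective_ofPt (repWith_of_isIso (P := (@Surjective : MorphismProperty Scheme.{u})) θ) y
    exact ⟨g, by rw [← hg]; exact (Points.map_ofPt _ _ _).symm⟩

theorem exists_factor_scheme {F : Sp S} {U : Over S} {a : (yon S).obj U ⟶ X.obj} (ha : RepWith @IsOpenImmersion a)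
    (f : F ⟶ X.obj) (h : Set.range (Points.map f) ⊆ Set.range (Points.ofPt a)) : ∃ g, g ≫ a = f :=
  (exists_factor_iff ha f).2 fun x hx => by
    obtain ⟨u, rfl⟩ := h hx
    exact ⟨Points.ofScheme U u, (Points.ofPt_eq_map_ofScheme _ _).symm⟩

theorem exists_factor_yon {T U : Over S} {a : (yon S).obj U ⟶ X.obj} (ha : RepWith @IsOpenImmersion a)
    (f : (yon S).obj T ⟶ X.obj) (h : ∀ t, Points.ofPt f t ∈ Set.range (Points.ofPt a)) :
    ∃ g : T ⟶ U, (yon S).map g ≫ a = f := by
  obtain ⟨g, hg⟩ := exists_factor_scheme ha f (by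
    rintro _ ⟨p, rfl⟩
    obtain ⟨t, rfl⟩ := (Points.schemeEquiv T).surjective p
    exact (Points.ofPt_eq_map_ofScheme f t) ▸ h t)
  obtain ⟨g, rfl⟩ := (yon S).map_surjective g
  exact ⟨g, hg⟩

/-- The local isomorphism does not depend on the charts. -/
theorem isIso_stalkMap_transfer (f : X ⟶ Y) {U V U' V' : Over S} {a : (yon S).obj U ⟶ X.obj}
    {b : (yon S).obj V ⟶ Y.obj} (ha : RepWith @IsOpenImmersion a) (hb : RepWith @IsOpenImmersion b) {g : U ⟶ V}
    (w : a ≫ f.hom = (yon S).map g ≫ b) {a' : (yon S).obj U' ⟶ X.obj} {b' : (yon S).obj V' ⟶ Y.obj}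
    (ha' : RepWith @IsOpenImmersion a') (hb' : RepWith @IsOpenImmersion b') {g' : U' ⟶ V'}
    (w' : a' ≫ f.hom = (yon S).map g' ≫ b') {u : U.left} {u' : U'.left}
    (e : Points.ofPt a u = Points.ofPt a' u') (hi : IsIso (g.left.stalkMap u)) : IsIso (g'.left.stalkMap u') := by
  obtain ⟨P, p, p', sP⟩ := exists_isPullback_of_representable ha.1 a'
  obtain ⟨Q, q, q', sQ⟩ := exists_isPullback_of_representable hb.1 b'
  haveI : IsOpenImmersion p'.left := repWith_prop ha sP
  haveI : IsOpenImmersion p.left := repWith_prop ha' sP.flip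
  haveI : IsOpenImmersion q'.left := repWith_prop hb sQ
  haveI : IsOpenImmersion q.left := repWith_prop hb' sQ.flip
  obtain ⟨r, hr₁, hr₂⟩ := exists_lift_yon sQ (p ≫ g) (p' ≫ g') (by
    rw [Functor.map_comp, Functor.map_comp, Category.assoc, Category.assoc, ← w, ← w', reassoc_of% sP.w])
  obtain ⟨x, hx, hx'⟩ := (ofPt_eq_ofPt_iff sP u u').1 e
  subst hx hx'
  haveI := hi
  haveI h₁ : IsIso ((p.left ≫ g.left).stalkMap x) := by
    rw [Scheme.Hom.stalkMap_comp]; exact IsIso.comp_isIso' hi (inferInstance : IsIso (p.left.stalkMap x))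
  have h₂ : IsIso ((r.left ≫ q.left).stalkMap x) := by
    have e' : r.left ≫ q.left = p.left ≫ g.left := congrArg CommaMorphism.left hr₁
    rw [e']; exact h₁
  haveI : IsIso (r.left.stalkMap x) := by
    rw [Scheme.Hom.stalkMap_comp] at h₂
    haveI : IsIso (q.left.stalkMap (r.left x)) := inferInstance
    exact @IsIso.of_isIso_comp_left _ _ _ _ _ (q.left.stalkMap (r.left x)) (r.left.stalkMap x) this h₂
  have h₃ : IsIso ((p'.left ≫ g'.left).stalkMap x) := by
    have e' : r.left ≫ q'.left = p'.left ≫ g'.left := congrArg CommaMorphism.left hr₂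
    rw [← e', Scheme.Hom.stalkMap_comp]
    exact IsIso.comp_isIso' (inferInstance : IsIso (q'.left.stalkMap (r.left x))) inferInstance
  rw [Scheme.Hom.stalkMap_comp] at h₃
  haveI : IsIso (p'.left.stalkMap x) := inferInstance
  exact @IsIso.of_isIso_comp_right _ _ _ _ _ (g'.left.stalkMap (p'.left x)) (p'.left.stalkMap x) this h₃

open W4stk3decentspacesp2

/-- A scheme model of a birational morphism over an open subscheme of the target. -/
theorem exists_model (f : X ⟶ Y) (hX : IsDecent X.obj) (hY : IsDecent Y.obj)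
    (hXf : (irreducibleComponents (Points X.obj)).Finite) (hf : IsBirational f.hom) {Y0 : Over S}
    {b0 : (yon S).obj Y0 ⟶ Y.obj} (hb0 : RepWith @IsOpenImmersion b0) :
    ∃ (X0 : Over S) (a0 : (yon S).obj X0 ⟶ X.obj) (g0 : X0 ⟶ Y0), RepWith @IsOpenImmersion a0 ∧
      a0 ≫ f.hom = (yon S).map g0 ≫ b0 ∧
      Set.range (Points.ofPt a0) = {x | SL.SchemePt x} ∩ Points.map f.hom ⁻¹' Set.range (Points.ofPt b0) ∧
      (∀ x, IsMaxPt x → Points.map f.hom x ∈ Set.range (Points.ofPt b0) → x ∈ Set.range (Points.ofPt a0)) ∧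
      Set.BijOn (fun x : X0.left => g0.left.base x) {x | closure {x} ∈ irreducibleComponents X0.left}
        {y | closure {y} ∈ irreducibleComponents Y0.left} ∧
      (∀ x : X0.left, closure {x} ∈ irreducibleComponents X0.left → IsIso (g0.left.stalkMap x)) := by
  let O : Set (Points X.obj) := {x | SL.SchemePt x} ∩ Points.map f.hom ⁻¹' Set.range (Points.ofPt b0)
  have hO : IsOpen O := SL.isOpen_schemePt.inter ((isOpen_range_ofPt hb0).preimage (Points.continuous_map f.hom))
  obtain ⟨X0, a0, ha0, hr⟩ := exists_openScheme X O hO fun x hx => hx.1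
  obtain ⟨g0, hg0⟩ := exists_factor_yon hb0 (a0 ≫ f.hom) (fun t => by
    rw [← Points.map_ofPt]
    exact (hr.le ⟨t, rfl⟩).2)
  have hm : ∀ x, IsMaxPt x → Points.map f.hom x ∈ Set.range (Points.ofPt b0) → x ∈ Set.range (Points.ofPt a0) :=
    fun x hx hx' => hr.ge ⟨schemePt_of_maxPt hX hXf hx, hx'⟩
  have key : ∀ x : X0.left, Points.map f.hom (Points.ofPt a0 x) = Points.ofPt b0 (g0.left x) := fun x => by
    rw [Points.map_ofPt, ← hg0, ofPt_comp]
  have iffX : ∀ x : X0.left, closure {x} ∈ irreducibleComponents X0.left ↔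
      Points.ofPt a0 x ∈ genericPoints (Points X.obj) := fun x =>
    (isMaxPt_iff x).symm.trans ((maxPt_chart_iff hX (repWith_etale_of_open ha0) x).symm.trans (maxPt_iff hX _))
  have iffY : ∀ y : Y0.left, closure {y} ∈ irreducibleComponents Y0.left ↔
      Points.ofPt b0 y ∈ genericPoints (Points Y.obj) := fun y =>
    (isMaxPt_iff y).symm.trans ((maxPt_chart_iff hY (repWith_etale_of_open hb0) y).symm.trans (maxPt_iff hY _))
  refine ⟨X0, a0, g0, ha0, hg0.symm, hr, hm,
    ⟨fun x hx => (iffY _).2 (key x ▸ hf.bijOn.mapsTo ((iffX x).1 hx)),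
     fun x hx x' hx' e => injective_ofPt ha0 (hf.bijOn.injOn ((iffX x).1 hx) ((iffX x').1 hx') (by
       rw [key, key]
       exact congrArg _ e)),
     fun y hy => ?_⟩, fun x hx => ?_⟩
  · obtain ⟨x, hx, hxy⟩ := hf.bijOn.surjOn ((iffY y).1 hy)
    obtain ⟨x₀, rfl⟩ := hm x ((maxPt_iff hX x).2 hx) ⟨y, hxy.symm⟩
    exact ⟨x₀, (iffX x₀).2 hx, injective_ofPt hb0 ((key x₀).symm.trans hxy)⟩
  · obtain ⟨U, V, a, b, g, u, ha, hb, w, hu, hi⟩ := hf.stalkIso _ ((iffX x).1 hx)
    exact isIso_stalkMap_transfer f ha hb w ha0 hb0 hg0.symm hu hi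

end Groth.L09.Birat
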