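import Groth.Agent.L09.Birat.Core
import Groth.Agent.L09.SpLimit.Points
import Mathlib.AlgebraicGeometry.Morphisms.Finite
import Mathlib.AlgebraicGeometry.Morphisms.Separated

/-!
# The fibre of a birational morphism of decent spaces over a maximal point
-/

universe u

open CategoryTheory CategoryTheory.Limits AlgebraicGeometry Opposite AlgSp Topology

set_option autoImplicit false
set_option linter.style.haveILetI false
set_option backward.isDefEq.respectTransparency false
set_option backward.isDefEq.respectTransparency.types false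

namespace Groth.L09.Birat

open Groth.L23 W4stk3decentspacesp2

theorem isClosed_of_etale_over_field {W T : Scheme.{u}} {k : Type u} [Field k] (h : W ⟶ Spec (CommRingCat.of k))
    [IsSeparated h] (j : T ⟶ W) [Etale (j ≫ h)] (t : T) : IsClosed ({j t} : Set W) := by
  haveI := lqf_of_etale (j ≫ h)
  haveI : DiscreteTopology T := discreteTopology_iff_isOpen_singleton.2 (Pt.isOpen_singleton_of_qf (j ≫ h))
  haveI := isClosed_singleton_iff_isClosedImmersion.mp (isClosed_discrete ({t} : Set T))
  haveI : IsFinite ((T.fromSpecResidueField t ≫ j) ≫ h) := by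
    rw [Category.assoc]
    exact isFinite_iff_locallyOfFiniteType_of_jacobsonSpace.2 inferInstance
  haveI : IsProper (T.fromSpecResidueField t ≫ j) := IsProper.of_comp _ h
  have := (T.fromSpecResidueField t ≫ j).isClosedMap.isClosed_range
  rwa [show Set.range (T.fromSpecResidueField t ≫ j) = {j t} by
    simp [Set.range_comp, Scheme.range_fromSpecResidueField]] at this

variable {S : Scheme.{u}} {X Y : AlgSp.Space S}

/-- The only point over a maximal point is the maximal one. -/
theorem fibre_eq (f : X ⟶ Y) (hX : IsDecent X.obj) (hY : IsDecent Y.obj) {Y0 X0 : Over S}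
    {b0 : (yon S).obj Y0 ⟶ Y.obj} (hb0 : RepWith @IsOpenImmersion b0) {a0 : (yon S).obj X0 ⟶ X.obj}
    (ha0 : RepWith @IsOpenImmersion a0) (g0 : X0 ⟶ Y0) (hw : a0 ≫ f.hom = (yon S).map g0 ≫ b0)
    (hm : ∀ x, IsMaxPt x → Points.map f.hom x ∈ Set.range (Points.ofPt b0) → x ∈ Set.range (Points.ofPt a0))
    (hbij : Set.BijOn (fun x : X0.left => g0.left.base x) {x | closure {x} ∈ irreducibleComponents X0.left}
      {y | closure {y} ∈ irreducibleComponents Y0.left})
    (hiso : ∀ x : X0.left, closure {x} ∈ irreducibleComponents X0.left → IsIso (g0.left.stalkMap x))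
    {η : Y0.left} (hη : IsMaxPt (Points.ofPt b0 η)) {z : Points X.obj}
    (hz : Points.map f.hom z ⤳ Points.ofPt b0 η) :
    ∃ ξ : X0.left, g0.left ξ = η ∧ IsMaxPt (Points.ofPt a0 ξ) ∧ z = Points.ofPt a0 ξ := by
  have hzy : Points.map f.hom z = Points.ofPt b0 η := hη _ hz
  obtain ⟨x1, hx1, hs⟩ := exists_maxPt hX z
  have hfx1 : Points.map f.hom x1 = Points.ofPt b0 η :=
    hη _ ((hs.map (Points.continuous_map f.hom)).trans hz)
  obtain ⟨ξ, rfl⟩ := hm x1 hx1 ⟨η, hfx1.symm⟩
  have hξ : g0.left ξ = η := injective_ofPt hb0 (by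
    rw [← hfx1, Points.map_ofPt, hw, ofPt_comp])
  refine ⟨ξ, hξ, hx1, ?_⟩
  obtain ⟨W₀, e₀, w₀, -, he₀, hw₀⟩ := Groth.L09.SpLimit.exists_chart_at X.property z
  obtain ⟨_, ⟨O, hO, rfl⟩, hwO, hOsub⟩ := W₀.left.isBasis_affineOpens.exists_subset_of_mem_open
    (show w₀ ∈ Points.ofPt e₀ ⁻¹' (Points.map f.hom ⁻¹' Set.range (Points.ofPt b0)) from ⟨η, by rw [hw₀, hzy]⟩)
    (((isOpen_range_ofPt hb0).preimage (Points.continuous_map f.hom)).preimage (Points.continuous_ofPt e₀))
  change W₀.left.Opens at O
  let W : Over S := Over.mk (O.ι ≫ W₀.hom)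
  haveI : IsAffine W.left := hO
  let e : (yon S).obj W ⟶ X.obj := (yon S).map (Over.homMk O.ι rfl : W ⟶ W₀) ≫ e₀
  have he : RepWith @Etale e := repWith_comp ((repWith_yon_map_iff _ _).2 (inferInstanceAs (Etale O.ι))) he₀
  let w : W.left := ⟨w₀, hwO⟩
  have hew : Points.ofPt e w = z := by
    refine (ofPt_comp _ e₀ w).trans ?_
    exact hw₀
  obtain ⟨w1, hw1, hw1'⟩ := Pt.generalizingMap_ofPt X.property hX he (show Points.ofPt a0 ξ ⤳ Points.ofPt e w from
    hew.symm ▸ hs)
  obtain ⟨h, hh⟩ := exists_factor_yon hb0 (e ≫ f.hom) (fun t => by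
    rw [← Points.map_ofPt, show Points.ofPt e t = Points.ofPt e₀ t.1 from ofPt_comp _ e₀ t]
    exact hOsub t.2)
  obtain ⟨R, p, q, sq⟩ := exists_isPullback_of_representable ha0.1 e
  haveI : IsOpenImmersion q.left := repWith_prop ha0 sq
  haveI : Etale p.left := repWith_prop he sq.flip
  obtain ⟨r, hrp, hrq⟩ := (ofPt_eq_ofPt_iff sq ξ w1).1 hw1'.symm
  have hqh : q ≫ h = p ≫ g0 := (yon S).map_injective ((mono_of_repWith_openImmersion hb0).right_cancellation _ _ (by
    rw [Functor.map_comp, Functor.map_comp, Category.assoc, Category.assoc, hh, ← hw, reassoc_of% sq.w]))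
  let m := Y0.left.fromSpecResidueField η
  have hhw : ∀ t, t = w ∨ t = w1 → h.left t = η := fun t ht => injective_ofPt hb0 (by
    rw [← ofPt_comp, hh, ← Points.map_ofPt]
    rcases ht with rfl | rfl
    · rw [hew, hzy]
    · rw [hw1', hfx1])
  obtain ⟨w', hw', -⟩ := Scheme.Pullback.exists_preimage_pullback (f := h.left) (g := m) w
    (IsLocalRing.closedPoint _) (by rw [hhw w (.inl rfl)]; exact (Y0.left.fromSpecResidueField_apply η _).symm)
  obtain ⟨w1', hw1'', -⟩ := Scheme.Pullback.exists_preimage_pullback (f := h.left) (g := m) w1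
    (IsLocalRing.closedPoint _) (by rw [hhw w1 (.inr rfl)]; exact (Y0.left.fromSpecResidueField_apply η _).symm)
  haveI : IsPreimmersion m := inferInstance
  have hemb := (pullback.fst h.left m).isEmbedding
  have hs' : w1' ⤳ w' := hemb.isInducing.specializes_iff.1 (by rw [hw', hw1'']; exact hw1)
  -- the open piece of the fibre etale over the residue field
  have hη' : closure {η} ∈ irreducibleComponents Y0.left :=
    (isMaxPt_iff η).1 ((maxPt_chart_iff hY (repWith_etale_of_open hb0) η).1 hη)
  haveI := Groth.L19.GenericIso.isIso_pullback_fromSpecStalk g0.left hbij hiso hη'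
  haveI hi : IsIso (pullback.snd g0.left m) := by
    let s := Spec.map (Y0.left.residue η)
    have sq₁ : IsPullback (pullback.fst g0.left m) (pullback.snd g0.left m) g0.left (s ≫ Y0.left.fromSpecStalk η) :=
      IsPullback.of_hasPullback g0.left m
    let l := pullback.lift (f := g0.left) (g := Y0.left.fromSpecStalk η) (pullback.fst g0.left m)
      (pullback.snd g0.left m ≫ s) (by rw [Category.assoc]; exact pullback.condition)
    have sq₂ : IsPullback l (pullback.snd g0.left m) (pullback.snd g0.left (Y0.left.fromSpecStalk η)) s := by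
      refine IsPullback.of_right ?_ (pullback.lift_snd _ _ _) (IsPullback.of_hasPullback g0.left (Y0.left.fromSpecStalk η))
      rwa [pullback.lift_fst]
    exact (MorphismProperty.isomorphisms Scheme).of_isPullback sq₂
      (MorphismProperty.isomorphisms.infer_property _)
  let j : pullback (q.left ≫ h.left) m ⟶ pullback h.left m :=
    pullback.map _ _ _ _ q.left (𝟙 _) (𝟙 _) (by simp) (by simp)
  haveI : Etale (j ≫ pullback.snd h.left m) := by
    rw [show j ≫ pullback.snd h.left m = pullback.snd _ _ by simp [j]]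
    have hqh' : q.left ≫ h.left = p.left ≫ g0.left := congrArg CommaMorphism.left hqh
    let l := pullback.lift (f := g0.left) (g := m) (pullback.fst (q.left ≫ h.left) m ≫ p.left)
      (pullback.snd (q.left ≫ h.left) m) (by rw [Category.assoc, ← hqh']; exact pullback.condition)
    have sq₃ : IsPullback (pullback.fst (q.left ≫ h.left) m) l p.left (pullback.fst g0.left m) := by
      refine IsPullback.of_bot ?_ (pullback.lift_fst _ _ _).symm (IsPullback.of_hasPullback g0.left m)
      simpa [l, ← hqh'] using IsPullback.of_hasPullback (q.left ≫ h.left) m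
    haveI : Etale l := MorphismProperty.of_isPullback sq₃ ‹Etale p.left›
    rw [show pullback.snd (q.left ≫ h.left) m = l ≫ pullback.snd g0.left m from (pullback.lift_snd _ _ _).symm]
    infer_instance
  haveI : IsSeparated h.left := by
    haveI : IsSeparated (h.left ≫ terminal.from Y0.left) := by
      rw [terminal.comp_from]; infer_instance
    exact IsSeparated.of_comp _ (terminal.from Y0.left)
  obtain ⟨t, ht, -⟩ := Scheme.Pullback.exists_preimage_pullback (f := q.left ≫ h.left) (g := m) r
    (IsLocalRing.closedPoint _) (by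
      rw [Scheme.Hom.comp_apply, hrq, hhw w1 (.inr rfl)]; exact (Y0.left.fromSpecResidueField_apply η _).symm)
  have hjt : j t = w1' := hemb.injective (by
    rw [← Scheme.Hom.comp_apply, show j ≫ pullback.fst h.left m = pullback.fst _ _ ≫ q.left by simp [j],
      Scheme.Hom.comp_apply, ht, hrq, hw1''])
  have hcl : IsClosed ({j t} : Set ↥(pullback h.left m)) :=
    isClosed_of_etale_over_field (pullback.snd h.left m) j t
  rw [hjt] at hcl
  have : w' = w1' := hs'.mem_closed hcl rfl
  rw [← hew, show w = w1 by rw [← hw', this, hw1''], hw1']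

end Groth.L09.Birat
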