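import Groth.Agent.L09.Birat.Fibre
import Groth.Agent.L09.SpLimit.Closure

/-!
# Isomorphisms at and near maximal points
-/

universe u

open CategoryTheory CategoryTheory.Limits AlgebraicGeometry Opposite AlgSp Topology

set_option autoImplicit false
set_option linter.style.haveILetI false
set_option backward.isDefEq.respectTransparency false
set_option backward.isDefEq.respectTransparency.types false

namespace Groth.L09.Birat

open Groth.L23 W4stk3decentspacesp2

variable {S : Scheme.{u}} {X Y : AlgSp.Space S}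

theorem isPullback_of_range (f : X ⟶ Y) {X0 Y0 : Over S} {a0 : (yon S).obj X0 ⟶ X.obj}
    (ha0 : RepWith @IsOpenImmersion a0) {b0 : (yon S).obj Y0 ⟶ Y.obj} (hb0 : RepWith @IsOpenImmersion b0)
    {g0 : X0 ⟶ Y0} (hw : a0 ≫ f.hom = (yon S).map g0 ≫ b0) {T : Over S} (m : T ⟶ Y0) {P : Sp S} {fst : P ⟶ X.obj}
    {snd : P ⟶ (yon S).obj T} (hP : IsPullback fst snd f.hom ((yon S).map m ≫ b0))
    (hr : Set.range (Points.map fst) ⊆ Set.range (Points.ofPt a0)) :
    ∃ l : P ⟶ (yon S).obj X0, l ≫ a0 = fst ∧ IsPullback l snd ((yon S).map g0) ((yon S).map m) := by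
  haveI := mono_of_repWith_openImmersion ha0
  haveI := mono_of_repWith_openImmersion hb0
  obtain ⟨l, hl⟩ := exists_factor_scheme ha0 fst hr
  have hcw : l ≫ (yon S).map g0 = snd ≫ (yon S).map m := by
    rw [← cancel_mono b0, Category.assoc, ← hw, ← Category.assoc, hl, hP.w, Category.assoc]
  refine ⟨l, hl, IsPullback.mk' hcw (fun T' φ φ' h₁ h₂ => hP.hom_ext ?_ h₂) fun T' a b e => ?_⟩
  · rw [← hl, ← Category.assoc, ← Category.assoc, h₁]
  · refine ⟨hP.lift (a ≫ a0) b (by rw [Category.assoc, hw, ← Category.assoc, e, Category.assoc]), ?_, hP.lift_snd _ _ _⟩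
    rw [← cancel_mono a0, Category.assoc, hl, hP.lift_fst]

theorem isIso_specStalk (f : X ⟶ Y) (hX : IsDecent X.obj) (hY : IsDecent Y.obj)
    (hXf : (irreducibleComponents (Points X.obj)).Finite) (hf : IsBirational f.hom) {V : Over S}
    (b : (yon S).obj V ⟶ Y.obj) (hb : RepWith @IsOpenImmersion b) (v : V.left)
    (hv : Points.ofPt b v ∈ genericPoints (Points Y.obj)) {P : Sp S} (fst : P ⟶ X.obj)
    (snd : P ⟶ (yon S).obj (Over.mk (V.left.fromSpecStalk v ≫ V.hom)))
    (hP : IsPullback fst snd f.hom ((yon S).map (Over.homMk (V.left.fromSpecStalk v) rfl) ≫ b)) : IsIso snd := by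
  obtain ⟨X0, a0, g0, ha0, hw, hr, hm, hbij, hiso⟩ := exists_model f hX hY hXf hf hb
  let m : Over.mk (V.left.fromSpecStalk v ≫ V.hom) ⟶ V := Over.homMk (V.left.fromSpecStalk v) rfl
  have hmax := (maxPt_iff hY _).2 hv
  have hsub : Set.range (Points.map fst) ⊆ Set.range (Points.ofPt a0) := by
    rintro _ ⟨p, rfl⟩
    obtain ⟨s, hs⟩ := (Points.schemeEquiv (Over.mk (V.left.fromSpecStalk v ≫ V.hom))).surjective (Points.map snd p)
    have hz : Points.map f.hom (Points.map fst p) ⤳ Points.ofPt b v := by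
      rw [← Points.map_comp, hP.w, Points.map_comp, ← hs]
      show Points.map _ (Points.ofScheme _ s) ⤳ _
      rw [← Points.ofPt_eq_map_ofScheme, ofPt_comp]
      refine Specializes.map ?_ (Points.continuous_ofPt b)
      exact Scheme.range_fromSpecStalk.le ⟨s, rfl⟩
    obtain ⟨ξ, -, -, hξ⟩ := fibre_eq f hX hY hb ha0 g0 hw hm hbij hiso hmax hz
    exact ⟨ξ, hξ.symm⟩
  obtain ⟨l, -, sql⟩ := isPullback_of_range f ha0 hb hw m hP hsub
  have hv' : closure {v} ∈ irreducibleComponents V.left :=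
    (isMaxPt_iff v).1 ((maxPt_chart_iff hY (repWith_etale_of_open hb) v).1 hmax)
  haveI := Groth.L19.GenericIso.isIso_pullback_fromSpecStalk g0.left hbij hiso hv'
  obtain ⟨R, p, q, sqR⟩ := exists_isPullback_of_representable
    ((IsAlgSpace.yon_obj V).representable_from_yon ((yon S).map g0)) ((yon S).map m)
  have sqO : IsPullback p q g0 m := IsPullback.of_map (yon S)
    ((yon S).map_injective (by rw [Functor.map_comp, Functor.map_comp]; exact sqR.w)) sqR
  have sqL := sqO.map (Over.forget S)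
  haveI : IsIso q.left := by
    rw [show q.left = sqL.isoPullback.hom ≫ pullback.snd g0.left (V.left.fromSpecStalk v) from
      sqL.isoPullback_hom_snd.symm]
    infer_instance
  haveI : IsIso ((Over.forget S).map q) := ‹IsIso q.left›
  haveI : IsIso q := isIso_of_reflects_iso q (Over.forget S)
  rw [← sql.isoIsPullback_hom_snd _ _ sqR]
  infer_instance

theorem exists_model_max (f : X ⟶ Y) (hX : IsDecent X.obj) (hY : IsDecent Y.obj)
    (hXf : (irreducibleComponents (Points X.obj)).Finite) (hYf : (irreducibleComponents (Points Y.obj)).Finite)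
    (hf : IsBirational f.hom) :
    ∃ (Y0 X0 : Over S) (b0 : (yon S).obj Y0 ⟶ Y.obj) (a0 : (yon S).obj X0 ⟶ X.obj) (g0 : X0 ⟶ Y0),
      RepWith @IsOpenImmersion b0 ∧ RepWith @IsOpenImmersion a0 ∧
      (∀ y, IsMaxPt y → y ∈ Set.range (Points.ofPt b0)) ∧
      a0 ≫ f.hom = (yon S).map g0 ≫ b0 ∧
      Set.range (Points.ofPt a0) = {x | SL.SchemePt x} ∩ Points.map f.hom ⁻¹' Set.range (Points.ofPt b0) ∧
      (∀ x, IsMaxPt x → x ∈ Set.range (Points.ofPt a0)) ∧
      Set.BijOn (fun x : X0.left => g0.left.base x) {x | closure {x} ∈ irreducibleComponents X0.left}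
        {y | closure {y} ∈ irreducibleComponents Y0.left} ∧
      (∀ x : X0.left, closure {x} ∈ irreducibleComponents X0.left → IsIso (g0.left.stalkMap x)) := by
  obtain ⟨Y0, b0, hb0, hr0⟩ := exists_openScheme Y _ SL.isOpen_schemePt fun _ h => h
  obtain ⟨X0, a0, g0, ha0, hw, hr, hm, hbij, hiso⟩ := exists_model f hX hY hXf hf hb0
  refine ⟨Y0, X0, b0, a0, g0, hb0, ha0, fun y hy => hr0.ge (schemePt_of_maxPt hY hYf hy), hw, hr,
    fun x hx => hm x hx (hr0.ge (schemePt_of_maxPt hY hYf ?_)), hbij, hiso⟩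
  exact (maxPt_iff hY _).2 (hf.bijOn.mapsTo ((maxPt_iff hX x).1 hx))

theorem dense_of_maxPt (hX : IsDecent X.obj) {A : Set (Points X.obj)} (h : ∀ x, IsMaxPt x → x ∈ A) : Dense A :=
  fun z => by
    obtain ⟨x, hx, hxz⟩ := exists_maxPt hX z
    exact closure_mono (Set.singleton_subset_iff.2 (h x hx)) hxz.mem_closure

theorem hf_model (f : X ⟶ Y) (h : (LocP @LocallyOfFiniteType f.hom ∧ EtaleLocally (fun T => IsReduced T) Y.obj) ∨
      LocP @LocallyOfFinitePresentation f.hom) {Y0 X0 : Over S} {b0 : (yon S).obj Y0 ⟶ Y.obj}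
    (hb0 : RepWith @IsOpenImmersion b0) {a0 : (yon S).obj X0 ⟶ X.obj} (ha0 : RepWith @IsOpenImmersion a0)
    {g0 : X0 ⟶ Y0} (hw : a0 ≫ f.hom = (yon S).map g0 ≫ b0) :
    LocallyOfFiniteType g0.left ∧
      ((LocallyOfFiniteType g0.left ∧ IsReduced Y0.left) ∨ LocallyOfFinitePresentation g0.left) := by
  rcases h with ⟨h₁, h₂⟩ | h₁
  · have := h₁ a0 b0 g0 (repWith_etale_of_open ha0) (repWith_etale_of_open hb0) hw
    exact ⟨this, .inl ⟨this, Groth.L09.SpLimit.isReduced_chart h₂ (repWith_etale_of_open hb0)⟩⟩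
  · have : LocallyOfFinitePresentation g0.left :=
      h₁ a0 b0 g0 (repWith_etale_of_open ha0) (repWith_etale_of_open hb0) hw
    exact ⟨inferInstance, .inr this⟩

theorem exists_dense_open_isIso (f : X ⟶ Y) (hX : IsDecent X.obj) (hY : IsDecent Y.obj)
    (hXf : (irreducibleComponents (Points X.obj)).Finite) (hYf : (irreducibleComponents (Points Y.obj)).Finite)
    (hf : IsBirational f.hom)
    (h : (LocP @LocallyOfFiniteType f.hom ∧ EtaleLocally (fun T => IsReduced T) Y.obj) ∨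
      LocP @LocallyOfFinitePresentation f.hom) :
    ∃ (U : Over S) (a : (yon S).obj U ⟶ X.obj), RepWith @IsOpenImmersion a ∧ RepWith @IsOpenImmersion (a ≫ f.hom) ∧
      (∀ x, IsMaxPt x → x ∈ Set.range (Points.ofPt a)) ∧
      (∀ y, IsMaxPt y → y ∈ Set.range (Points.ofPt (a ≫ f.hom))) := by
  obtain ⟨Y0, X0, b0, a0, g0, hb0, ha0, hmY, hw, -, hmX, hbij, hiso⟩ := exists_model_max f hX hY hXf hYf hf
  obtain ⟨hlft, hh⟩ := hf_model f h hb0 ha0 hw
  haveI := hlft
  obtain ⟨O, hO, hOi⟩ := Groth.L19.GenericIso.exists_dense_opens g0.left hbij hiso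
    (finite_maxPt_chart hX hXf ha0) (finite_maxPt_chart hY hYf hb0) hh
  let U : Over S := Over.mk (O.ι ≫ X0.hom)
  let i : U ⟶ X0 := Over.homMk O.ι rfl
  have hmem : ∀ x, IsMaxPt x → x ∈ Set.range (Points.ofPt ((yon S).map i ≫ a0)) := fun x hx => by
    obtain ⟨t, rfl⟩ := hmX x hx
    refine ⟨⟨t, hO t ((isMaxPt_iff t).1 ((maxPt_chart_iff hX (repWith_etale_of_open ha0) t).1 hx))⟩, ?_⟩
    exact ofPt_comp _ _ _
  refine ⟨U, (yon S).map i ≫ a0, repWith_comp ((repWith_yon_map_iff _ _).2 (inferInstanceAs (IsOpenImmersion O.ι))) ha0,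
    ?_, hmem, fun y hy => ?_⟩
  · rw [Category.assoc, hw, ← Category.assoc, ← Functor.map_comp]
    exact repWith_comp ((repWith_yon_map_iff _ _).2 (show IsOpenImmersion (O.ι ≫ g0.left) from hOi)) hb0
  · obtain ⟨x, hx, rfl⟩ := hf.bijOn.surjOn ((maxPt_iff hY y).1 hy)
    obtain ⟨t, ht⟩ := hmem x ((maxPt_iff hX x).2 hx)
    exact ⟨t, by rw [← ht, Points.map_ofPt]⟩

end Groth.L09.Birat
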