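import Groth.Agent.L09.Birat.BaseChange
import Groth.Agent.L09.SpLimit.Closure
import Groth.Agent.L23.AffineMor
import Mathlib.RingTheory.IntegralClosure.IntegrallyClosed

/-!
# Integral birational morphisms onto normal spaces
-/

universe u

open CategoryTheory CategoryTheory.Limits AlgebraicGeometry Opposite AlgSp Topology

set_option autoImplicit false
set_option linter.style.haveILetI false
set_option backward.isDefEq.respectTransparency false
set_option backward.isDefEq.respectTransparency.types false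

namespace Groth.L09.Birat

open Groth.L23 Groth.L23.StLocal W4stk3decentspacesp2

theorem bijective_of_integral_birational {A B : Type u} [CommRing A] [CommRing B] [IsReduced B] (φ : A →+* B)
    (hint : φ.IsIntegral) (hBfin : (minimalPrimes B).Finite)
    (hn : ∀ (P : Ideal A) [P.IsPrime], IsDomain (Localization.AtPrime P) ∧ IsIntegrallyClosed (Localization.AtPrime P))
    (hbij : Set.BijOn (Ideal.comap φ) (minimalPrimes B) (minimalPrimes A))
    (hfrac : ∀ q ∈ minimalPrimes B, ∀ b, ∃ c d, d ∉ Ideal.comap φ q ∧ φ d * b - φ c ∈ q) :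
    Function.Bijective φ := by
  classical
  haveI : IsReduced A := isReduced_ofLocalizationMaximal A fun J _ => by
    haveI := (hn J).1
    infer_instance
  refine ⟨(injective_iff_map_eq_zero φ).2 fun a ha => ?_, fun b => ?_⟩
  · have h₁ : a ∈ sInf (minimalPrimes A) := by
      rw [Submodule.mem_sInf]
      intro p hp
      obtain ⟨q, hq, rfl⟩ := hbij.surjOn hp
      show φ a ∈ q
      rw [ha]
      exact q.zero_mem
    rw [show sInf (minimalPrimes A) = sInf (⊥ : Ideal A).minimalPrimes from rfl, Ideal.sInf_minimalPrimes,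
      Ideal.mem_radical_iff] at h₁
    obtain ⟨n, hn'⟩ := h₁
    exact IsReduced.eq_zero a ⟨n, by simpa using hn'⟩
  · let I : Ideal A :=
      { carrier := {s | ∃ a, φ s * b = φ a}
        add_mem' := fun {s t} ⟨a, ha⟩ ⟨a', ha'⟩ => ⟨a + a', by rw [map_add, map_add, add_mul, ha, ha']⟩
        zero_mem' := ⟨0, by simp⟩
        smul_mem' := fun r s ⟨a, ha⟩ => ⟨r * a, by rw [smul_eq_mul, map_mul, map_mul, mul_assoc, ha]⟩ }
    suffices hI : I = ⊤ by
      obtain ⟨a, ha⟩ : (1 : A) ∈ I := hI ▸ Submodule.mem_top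
      exact ⟨a, by rw [← ha, map_one, one_mul]⟩
    by_contra hI
    obtain ⟨P, hP, hIP⟩ := Ideal.exists_le_maximal I hI
    haveI := hP.isPrime
    obtain ⟨hdom, hic⟩ := hn P
    let L := Localization.AtPrime P
    -- the minimal prime below `P`
    let p₀ : Ideal A := RingHom.ker (algebraMap A L)
    haveI : p₀.IsPrime := RingHom.ker_isPrime _
    have hzero : ∀ x ∈ p₀, ∃ s ∉ P, s * x = 0 := fun x hx => by
      obtain ⟨⟨s, hs⟩, h⟩ := (IsLocalization.map_eq_zero_iff P.primeCompl L x).1 hx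
      exact ⟨s, hs, h⟩
    have hle : ∀ (p : Ideal A), p.IsPrime → p ≤ P → p₀ ≤ p := fun p hp hpP x hx => by
      obtain ⟨s, hs, h⟩ := hzero x hx
      exact ((hp.mem_or_mem (h ▸ p.zero_mem)).resolve_left fun h' => hs (hpP h'))
    have hp₀P : p₀ ≤ P := hle P hP.isPrime le_rfl
    have hp₀ : p₀ ∈ minimalPrimes A :=
      ⟨⟨inferInstance, bot_le⟩, fun p hp hpp => hle p hp.1 (hpp.trans hp₀P)⟩
    obtain ⟨q, hq, hqp⟩ := hbij.surjOn hp₀
    haveI := hq.1.1
    obtain ⟨c, d, hd, hcd⟩ := hfrac q hq b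
    rw [hqp] at hd
    have hd0 : algebraMap A L d ≠ 0 := hd
    -- the fraction is integral
    let K := FractionRing L
    let j : A →+* K := (algebraMap L K).comp (algebraMap A L)
    have hjd : j d ≠ 0 := fun h => hd0 (IsFractionRing.injective L K (h.trans (map_zero _).symm))
    obtain ⟨F, hFm, hF⟩ := hint b
    let n := F.natDegree
    have hq' : φ (∑ i ∈ Finset.range (n + 1), F.coeff i * c ^ i * d ^ (n - i)) ∈ q := by
      have hb := Ideal.Quotient.eq_zero_iff_mem (I := q) (a := φ (∑ i ∈ Finset.range (n + 1), F.coeff i * c ^ i * d ^ (n - i)))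
      rw [← hb]
      let π := Ideal.Quotient.mk q
      have hc : π (φ c) = π (φ d) * π b := by
        rw [← map_mul, eq_comm, Ideal.Quotient.eq]
        exact hcd
      have hF' : (∑ i ∈ Finset.range (n + 1), π (φ (F.coeff i)) * π b ^ i) = 0 := by
        have := congrArg π hF
        rw [map_zero, Polynomial.eval₂_eq_sum_range, map_sum] at this
        simpa [map_mul, map_pow] using this
      rw [map_sum, map_sum]
      calc (∑ i ∈ Finset.range (n + 1), π (φ (F.coeff i * c ^ i * d ^ (n - i))))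
          = ∑ i ∈ Finset.range (n + 1), π (φ d) ^ n * (π (φ (F.coeff i)) * π b ^ i) := by
            refine Finset.sum_congr rfl fun i hi => ?_
            have hin : i ≤ n := Nat.lt_succ_iff.1 (Finset.mem_range.1 hi)
            simp only [map_mul, map_pow, hc, mul_pow]
            conv_rhs => rw [← Nat.add_sub_cancel' hin, pow_add]
            ring
        _ = 0 := by rw [← Finset.mul_sum, hF', mul_zero]
    have hmem : (∑ i ∈ Finset.range (n + 1), F.coeff i * c ^ i * d ^ (n - i)) ∈ p₀ := hqp ▸ hq'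
    have hz : IsIntegral L (j c / j d) := by
      refine ⟨F.map (algebraMap A L), hFm.map _, ?_⟩
      rw [Polynomial.eval₂_map]
      show Polynomial.eval₂ j _ F = 0
      have h0 : j (∑ i ∈ Finset.range (n + 1), F.coeff i * c ^ i * d ^ (n - i)) = 0 := by
        rw [RingHom.comp_apply, RingHom.mem_ker.1 hmem, map_zero]
      rw [Polynomial.eval₂_eq_sum_range]
      refine mul_right_cancel₀ (pow_ne_zero n hjd) ?_
      rw [zero_mul, Finset.sum_mul, ← h0, map_sum]
      refine Finset.sum_congr rfl fun i hi => ?_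
      have hin : i ≤ n := Nat.lt_succ_iff.1 (Finset.mem_range.1 hi)
      have key : (j c / j d) ^ i * j d ^ i = j c ^ i := by rw [← mul_pow, div_mul_cancel₀ _ hjd]
      simp only [map_mul, map_pow]
      rw [← key]
      conv_lhs => rw [← Nat.add_sub_cancel' hin, pow_add]
      ring
    obtain ⟨z, hzz⟩ := IsIntegrallyClosed.isIntegral_iff.1 hz
    obtain ⟨⟨a, s⟩, has⟩ := IsLocalization.surj P.primeCompl z
    have hscd : (s : A) * c - a * d ∈ p₀ := by
      show algebraMap A L _ = 0
      rw [map_sub, map_mul, map_mul, sub_eq_zero]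
      refine IsFractionRing.injective L K ?_
      rw [map_mul, map_mul, ← has, map_mul, hzz]
      show _ * j c = j c / j d * _ * j d
      rw [mul_right_comm, div_mul_cancel₀ _ hjd, mul_comm]
    have hmain : φ s * b - φ a ∈ q := by
      have h₁ : φ d * (φ s * b - φ a) = φ s * (φ d * b - φ c) + φ ((s : A) * c - a * d) := by
        simp only [map_sub, map_mul]; ring
      have h₂ : φ d * (φ s * b - φ a) ∈ q :=
        h₁ ▸ q.add_mem (q.mul_mem_left _ hcd) (show φ _ ∈ q from (hqp ▸ hscd : _ ∈ Ideal.comap φ q))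
      exact (hq.1.1.mem_or_mem h₂).resolve_left fun h => hd (hqp ▸ h)
    -- kill the other components
    have hother : ∀ q' ∈ minimalPrimes B, q' ≠ q → ∃ t ∉ P, φ t ∈ q' := fun q' hq' hne => by
      by_contra h
      push Not at h
      have hle' : Ideal.comap φ q' ≤ P := fun x hx => by
        by_contra hxP
        exact h x hxP hx
      haveI := hq'.1.1
      have h₁ := hle _ (inferInstanceAs (Ideal.comap φ q').IsPrime) hle'
      exact hne (hbij.injOn hq' hq ((le_antisymm h₁ ((hbij.mapsTo hq').2 ⟨inferInstance, bot_le⟩ h₁)).symm.trans hqp.symm))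
    choose! t ht₁ ht₂ using hother
    let T : A := ∏ q' ∈ hBfin.toFinset.erase q, t q'
    have hT : T ∉ P := fun hT => by
      obtain ⟨q', hq', h⟩ := (Ideal.IsPrime.prod_mem_iff).1 hT
      rw [Finset.mem_erase, Set.Finite.mem_toFinset] at hq'
      exact ht₁ q' hq'.2 hq'.1 h
    have hkill : φ T * (φ s * b - φ a) = 0 := by
      have : φ T * (φ s * b - φ a) ∈ sInf (⊥ : Ideal B).minimalPrimes := by
        rw [Submodule.mem_sInf]
        intro q' hq'
        by_cases hqq : q' = q
        · exact hqq ▸ q.mul_mem_left _ hmain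
        · refine Ideal.mul_mem_right _ q' ?_
          rw [map_prod]
          exact Ideal.prod_mem (I := q') (f := fun i => φ (t i)) (Finset.mem_erase.2 ⟨hqq, hBfin.mem_toFinset.2 hq'⟩) (ht₂ q' hq' hqq)
      rw [Ideal.sInf_minimalPrimes, Ideal.mem_radical_iff] at this
      obtain ⟨m, hm⟩ := this
      exact IsReduced.eq_zero _ ⟨m, by simpa using hm⟩
    have hTs : T * (s : A) ∈ I := ⟨T * a, by
      rw [mul_sub, sub_eq_zero] at hkill
      rw [map_mul, map_mul, mul_assoc, hkill]⟩
    exact ((‹P.IsPrime›).mem_or_mem (hIP hTs)).elim hT s.2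

theorem surj_of_isIso_stalkMap {A B : CommRingCat.{u}} (φ : A ⟶ B) (q : PrimeSpectrum B)
    [IsIso ((Spec.map φ).stalkMap q)] (b : B) :
    ∃ c d, d ∉ Ideal.comap φ.hom q.asIdeal ∧ φ d * b - φ c ∈ q.asIdeal := by
  have h : IsIso (CommRingCat.ofHom (Localization.localRingHom (q.comap φ.hom).asIdeal q.asIdeal φ.hom rfl)) :=
    ((MorphismProperty.isomorphisms CommRingCat).arrow_mk_iso_iff (Scheme.arrowStalkMapSpecIso φ q)).1
      (MorphismProperty.isomorphisms.infer_property _)
  haveI := h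
  obtain ⟨x, hx⟩ := (ConcreteCategory.bijective_of_isIso (CommRingCat.ofHom
    (Localization.localRingHom (q.comap φ.hom).asIdeal q.asIdeal φ.hom rfl))).2
      (algebraMap B (Localization.AtPrime q.asIdeal) b)
  obtain ⟨⟨c, d⟩, hcd⟩ := IsLocalization.surj (q.comap φ.hom).asIdeal.primeCompl x
  refine ⟨c, d.1, d.2, ?_⟩
  have h₂ := congrArg (Localization.localRingHom (q.comap φ.hom).asIdeal q.asIdeal φ.hom rfl) hcd
  rw [map_mul, Localization.localRingHom_to_map, Localization.localRingHom_to_map] at h₂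
  rw [show Localization.localRingHom (q.comap φ.hom).asIdeal q.asIdeal φ.hom rfl x =
    algebraMap B (Localization.AtPrime q.asIdeal) b from hx, ← map_mul] at h₂
  obtain ⟨⟨s, hs⟩, hs'⟩ := (IsLocalization.eq_iff_exists q.asIdeal.primeCompl _).1 h₂
  refine (q.2.mem_or_mem (show s * (φ d.1 * b - φ c) ∈ q.asIdeal from ?_)).resolve_left hs
  rw [mul_sub, mul_comm (φ d.1) b, sub_eq_zero.2 hs']
  exact q.asIdeal.zero_mem

theorem isIso_of_integral_birational {P V : Scheme.{u}} (h : P ⟶ V) [IsAffine P] [IsAffine V] [IsReduced P]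
    [IsIntegralHom h] (hn : Pi1.IsNormalScheme V) (hPf : (irreducibleComponents P).Finite)
    (hbij : Set.BijOn (fun x : P => h.base x) {x | closure {x} ∈ irreducibleComponents P}
      {y | closure {y} ∈ irreducibleComponents V})
    (hiso : ∀ x : P, closure {x} ∈ irreducibleComponents P → IsIso (h.stalkMap x)) : IsIso h := by
  obtain ⟨φ, hφ⟩ : ∃ φ : Γ(V, ⊤) ⟶ Γ(P, ⊤), h ≫ V.isoSpec.hom = P.isoSpec.hom ≫ Spec.map φ :=
    ⟨h.appTop, by rw [Scheme.isoSpec_hom_naturality]⟩
  suffices IsIso (Spec.map φ) by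
    have : IsIso (h ≫ V.isoSpec.hom) := by rw [hφ]; infer_instance
    exact IsIso.of_isIso_comp_right h V.isoSpec.hom
  haveI : IsReduced (Spec Γ(P, ⊤)) := isReduced_of_isOpenImmersion P.isoSpec.inv
  haveI : _root_.IsReduced Γ(P, ⊤) := inferInstance
  have hint : φ.hom.IsIntegral := by
    rw [← IsIntegralHom.SpecMap_iff, ← MorphismProperty.cancel_left_of_respectsIso @IsIntegralHom P.isoSpec.hom,
      ← hφ, MorphismProperty.cancel_right_of_respectsIso @IsIntegralHom]
    infer_instance
  have hmax : ∀ {R : CommRingCat.{u}} (q : PrimeSpectrum R),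
      q.asIdeal ∈ minimalPrimes R ↔ IsMaxPt (A := ↥(Spec R)) q := fun {R} q => by
    constructor
    · intro hq z hz
      exact PrimeSpectrum.ext (le_antisymm ((PrimeSpectrum.le_iff_specializes z q).2 hz)
        (hq.2 ⟨z.2, bot_le⟩ ((PrimeSpectrum.le_iff_specializes z q).2 hz)))
    · intro hq
      refine ⟨⟨q.2, bot_le⟩, fun p hp hle => ?_⟩
      exact (congrArg PrimeSpectrum.asIdeal
        (hq ⟨p, hp.1⟩ ((PrimeSpectrum.le_iff_specializes ⟨p, hp.1⟩ q).1 hle))).symm.le
  have hiP : ∀ x : P, IsMaxPt x ↔ IsMaxPt (P.isoSpec.hom x) := fun x => by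
    constructor
    · intro hx z hz
      obtain ⟨y, rfl⟩ := P.isoSpec.hom.homeomorph.surjective z
      exact congrArg _ (hx y (P.isoSpec.hom.homeomorph.isInducing.specializes_iff.1 hz))
    · intro hx z hz
      exact P.isoSpec.hom.homeomorph.injective (hx _ (hz.map P.isoSpec.hom.continuous))
  have hiV : ∀ x : V, IsMaxPt x ↔ IsMaxPt (V.isoSpec.hom x) := fun x => by
    constructor
    · intro hx z hz
      obtain ⟨y, rfl⟩ := V.isoSpec.hom.homeomorph.surjective z
      exact congrArg _ (hx y (V.isoSpec.hom.homeomorph.isInducing.specializes_iff.1 hz))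
    · intro hx z hz
      exact V.isoSpec.hom.homeomorph.injective (hx _ (hz.map V.isoSpec.hom.continuous))
  have hcomm : ∀ x : P, Spec.map φ (P.isoSpec.hom x) = V.isoSpec.hom (h x) := fun x => by
    rw [← Scheme.Hom.comp_apply, ← hφ, Scheme.Hom.comp_apply]
  have hbij' : Set.BijOn (Ideal.comap φ.hom) (minimalPrimes Γ(P, ⊤)) (minimalPrimes Γ(V, ⊤)) := by
    refine ⟨fun q hq => ?_, fun q hq q' hq' e => ?_, fun p hp => ?_⟩
    · obtain ⟨x, hx⟩ := P.isoSpec.hom.homeomorph.surjective (⟨q, hq.1.1⟩ : PrimeSpectrum Γ(P, ⊤))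
      have hxm : IsMaxPt x := (hiP x).2 (by
        show IsMaxPt (P.isoSpec.hom.homeomorph x)
        rw [hx]; exact (hmax _).1 hq)
      have := (hmax _).2 ((hiV _).1 ((isMaxPt_iff _).2 (hbij.mapsTo ((isMaxPt_iff x).1 hxm))))
      rwa [← hcomm, show P.isoSpec.hom x = ⟨q, hq.1.1⟩ from hx] at this
    · obtain ⟨x, hx⟩ := P.isoSpec.hom.homeomorph.surjective (⟨q, hq.1.1⟩ : PrimeSpectrum Γ(P, ⊤))
      obtain ⟨x', hx'⟩ := P.isoSpec.hom.homeomorph.surjective (⟨q', hq'.1.1⟩ : PrimeSpectrum Γ(P, ⊤))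
      have hxm : IsMaxPt x := (hiP x).2 (by
        show IsMaxPt (P.isoSpec.hom.homeomorph x)
        rw [hx]; exact (hmax _).1 hq)
      have hxm' : IsMaxPt x' := (hiP x').2 (by
        show IsMaxPt (P.isoSpec.hom.homeomorph x')
        rw [hx']; exact (hmax _).1 hq')
      have hxx : x = x' := hbij.injOn ((isMaxPt_iff x).1 hxm) ((isMaxPt_iff x').1 hxm') (by
        refine V.isoSpec.hom.homeomorph.injective ?_
        show V.isoSpec.hom (h x) = V.isoSpec.hom (h x')
        rw [← hcomm, ← hcomm, show P.isoSpec.hom x = ⟨q, hq.1.1⟩ from hx,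
          show P.isoSpec.hom x' = ⟨q', hq'.1.1⟩ from hx']
        exact PrimeSpectrum.ext e)
      exact congrArg PrimeSpectrum.asIdeal (hx.symm.trans ((congrArg _ hxx).trans hx'))
    · obtain ⟨y, hy⟩ := V.isoSpec.hom.homeomorph.surjective (⟨p, hp.1.1⟩ : PrimeSpectrum Γ(V, ⊤))
      have hym : IsMaxPt y := (hiV y).2 (by
        show IsMaxPt (V.isoSpec.hom.homeomorph y)
        rw [hy]; exact (hmax _).1 hp)
      obtain ⟨x, hx, rfl⟩ := hbij.surjOn ((isMaxPt_iff y).1 hym)
      refine ⟨(P.isoSpec.hom x).asIdeal, (hmax _).2 ((hiP x).1 ((isMaxPt_iff x).2 hx)), ?_⟩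
      exact congrArg PrimeSpectrum.asIdeal ((hcomm x).trans hy)
  have hfin : (minimalPrimes Γ(P, ⊤)).Finite := by
    refine ((genericPoints.finite hPf).image fun x => (P.isoSpec.hom x).asIdeal).subset fun q hq => ?_
    obtain ⟨x, hx⟩ := P.isoSpec.hom.homeomorph.surjective (⟨q, hq.1.1⟩ : PrimeSpectrum Γ(P, ⊤))
    refine ⟨x, (isMaxPt_iff x).1 ((hiP x).2 ?_), congrArg PrimeSpectrum.asIdeal hx⟩
    show IsMaxPt (P.isoSpec.hom.homeomorph x)
    rw [hx]; exact (hmax _).1 hq
  have hnA : ∀ (J : Ideal Γ(V, ⊤)) [J.IsPrime],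
      IsDomain (Localization.AtPrime J) ∧ IsIntegrallyClosed (Localization.AtPrime J) := fun J _ => by
    obtain ⟨y, hy⟩ := V.isoSpec.inv.homeomorph.surjective (V.isoSpec.inv (⟨J, ‹_›⟩ : PrimeSpectrum Γ(V, ⊤)))
    obtain ⟨h₁, h₂⟩ := hn (V.isoSpec.inv (⟨J, ‹_›⟩ : PrimeSpectrum Γ(V, ⊤)))
    let e := ((asIso (V.isoSpec.inv.stalkMap (⟨J, ‹_›⟩ : PrimeSpectrum Γ(V, ⊤)))) ≪≫
      Spec.stalkIso Γ(V, ⊤) ⟨J, ‹_›⟩).commRingCatIsoToRingEquiv
    haveI := h₁
    haveI := h₂
    exact ⟨e.symm.toMulEquiv.isDomain _, IsIntegrallyClosed.of_equiv e⟩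
  have hb := bijective_of_integral_birational φ.hom hint hfin hnA hbij' fun q hq b => by
    obtain ⟨x, hx⟩ := P.isoSpec.hom.homeomorph.surjective (⟨q, hq.1.1⟩ : PrimeSpectrum Γ(P, ⊤))
    have hxm : IsMaxPt x := (hiP x).2 (by
      show IsMaxPt (P.isoSpec.hom.homeomorph x)
      rw [hx]; exact (hmax _).1 hq)
    haveI := hiso x ((isMaxPt_iff x).1 hxm)
    have hi : IsIso ((Spec.map φ).stalkMap (P.isoSpec.hom x)) := by
      have h₁ : IsIso ((h ≫ V.isoSpec.hom).stalkMap x) := by
        rw [Scheme.Hom.stalkMap_comp]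
        exact IsIso.comp_isIso' (inferInstance : IsIso (V.isoSpec.hom.stalkMap (h x))) inferInstance
      rw [hφ, Scheme.Hom.stalkMap_comp] at h₁
      exact @IsIso.of_isIso_comp_right _ _ _ _ _ ((Spec.map φ).stalkMap (P.isoSpec.hom x))
        (P.isoSpec.hom.stalkMap x) inferInstance h₁
    have := @surj_of_isIso_stalkMap _ _ φ _ hi b
    rwa [show P.isoSpec.hom x = ⟨q, hq.1.1⟩ from hx] at this
  haveI : IsIso φ := (ConcreteCategory.isIso_iff_bijective φ).2 hb
  infer_instance

variable {S : Scheme.{u}} {X Y : AlgSp.Space S}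

theorem isIso_of_pullback_epi {F G : Sp S} (f : F ⟶ G) {U : Over S} {a : (yon S).obj U ⟶ G}
    (ha : RepWith @Etale a) (has : RepWith @Surjective a) {P : Sp S} {fst : P ⟶ F} {snd : P ⟶ (yon S).obj U}
    (sq : IsPullback fst snd f a) [IsIso snd] : IsIso f := by
  haveI := epi_of_repWith a ha has
  haveI : Epi f := by
    haveI : Epi (fst ≫ f) := by rw [sq.w]; infer_instance
    exact epi_of_epi fst f
  haveI : Mono f := ⟨fun {T} g₁ g₂ e => by
    have sqT := IsPullback.of_hasPullback a (g₁ ≫ f)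
    haveI : Epi (pullback.snd a (g₁ ≫ f)) :=
      epi_of_repWith _ (repWith_of_isPullback sqT ha) (repWith_of_isPullback sqT has)
    rw [← cancel_epi (pullback.snd a (g₁ ≫ f))]
    let l₁ := sq.lift (pullback.snd a (g₁ ≫ f) ≫ g₁) (pullback.fst a (g₁ ≫ f))
      (by rw [Category.assoc, pullback.condition])
    let l₂ := sq.lift (pullback.snd a (g₁ ≫ f) ≫ g₂) (pullback.fst a (g₁ ≫ f))
      (by rw [Category.assoc, ← e, pullback.condition])
    have hl : l₁ = l₂ := by rw [← cancel_mono snd]; simp [l₁, l₂]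
    have := congrArg (· ≫ fst) hl
    simpa [l₁, l₂] using this⟩
  exact Balanced.isIso_of_mono_of_epi f

theorem isIso_of_isIntegralMor_isBirational (f : X ⟶ Y) (hX : IsDecent X.obj) (hY : IsDecent Y.obj)
    (hXf : (irreducibleComponents (Points X.obj)).Finite) (hYf : (irreducibleComponents (Points Y.obj)).Finite)
    (hi : IsIntegralMor f.hom) (hf : IsBirational f.hom)
    (hYn : EtaleLocally (fun T => ∀ t : ↥T, IsDomain ↥(T.presheaf.stalk t) ∧
      IsIntegrallyClosed ↥(T.presheaf.stalk t)) Y.obj)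
    (hXr : EtaleLocally (fun T => IsReduced T) X.obj) : IsIso f.hom := by
  obtain ⟨U, a, hae, has, hn⟩ := hYn
  have hia := isIntegralMor_iff.1 hi
  obtain ⟨R, p, q, sq⟩ : ∃ (R : Over S) (p : (yon S).obj R ⟶ X.obj) (q : R ⟶ U),
      IsPullback p ((yon S).map q) f.hom a := ⟨_, _, _, hia.1.isPullback a⟩
  haveI : IsAffineHom q.left := by
    have : IsIntegralHom q.left := repWith_prop hia sq
    infer_instance
  haveI : IsIso q.left := by
    refine (IsZariskiLocalAtTarget.iff_of_openCover (P := MorphismProperty.isomorphisms Scheme) U.left.affineCover).2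
      fun i => ?_
    let V : Over S := Over.mk (U.left.affineCover.f i ≫ U.hom)
    haveI : IsAffine V.left := inferInstanceAs (IsAffine (U.left.affineCover.X i))
    let iV : V ⟶ U := Over.homMk (U.left.affineCover.f i) rfl
    haveI : IsOpenImmersion iV.left := inferInstanceAs (IsOpenImmersion (U.left.affineCover.f i))
    let b : (yon S).obj V ⟶ Y.obj := (yon S).map iV ≫ a
    have hbe : RepWith @Etale b := repWith_comp ((repWith_yon_map_iff _ _).2 (inferInstanceAs (Etale iV.left))) hae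
    obtain ⟨Pi, fP, sP, sqP⟩ : ∃ (Pi : Over S) (fP : (yon S).obj Pi ⟶ X.obj) (sP : Pi ⟶ V),
        IsPullback fP ((yon S).map sP) f.hom b := ⟨_, _, _, hia.1.isPullback b⟩
    haveI : IsIntegralHom sP.left := repWith_prop hia sqP
    haveI : IsAffine Pi.left := isAffine_of_isAffineHom sP.left
    obtain ⟨hPd, hPf, hVf, hbir⟩ := isBirational_baseChange f hX hY hXf hYf hf b hbe _ _ sqP
    let PS : AlgSp.Space S := ⟨(yon S).obj Pi, IsAlgSpace.yon_obj Pi⟩
    let VS : AlgSp.Space S := ⟨(yon S).obj V, IsAlgSpace.yon_obj V⟩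
    haveI : IsReduced Pi.left :=
      Groth.L09.SpLimit.isReduced_chart hXr (repWith_of_isPullback sqP.flip hbe)
    have hVn : Pi1.IsNormalScheme V.left := fun t => by
      obtain ⟨h₁, h₂⟩ := hn (iV.left t)
      let e := (asIso (iV.left.stalkMap t)).commRingCatIsoToRingEquiv
      haveI := h₁
      haveI := h₂
      exact ⟨e.symm.toMulEquiv.isDomain _, IsIntegrallyClosed.of_equiv e⟩
    have hVd : IsDecent VS.obj := Groth.Agent.S10352.result (X := VS) (Y := Y) (ObjectProperty.homMk b)
      (isEtaleMor_of_repWith VS.property Y.property hbe) hY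
    have iffP : ∀ x : Pi.left, closure {x} ∈ irreducibleComponents Pi.left ↔
        Points.ofScheme Pi x ∈ genericPoints (Points ((yon S).obj Pi)) := fun x => by
      rw [← maxPt_iff (X := PS) hPd]
      refine ((isMaxPt_iff x).symm.trans (maxPt_chart_iff (X := PS) hPd (a := 𝟙 _) (repWith_of_isIso _) x).symm).trans ?_
      rw [Points.ofPt_eq_map_ofScheme, Points.map_id]
    have iffV : ∀ x : V.left, closure {x} ∈ irreducibleComponents V.left ↔
        Points.ofScheme V x ∈ genericPoints (Points ((yon S).obj V)) := fun x => by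
      rw [← maxPt_iff (X := VS) hVd]
      refine ((isMaxPt_iff x).symm.trans (maxPt_chart_iff (X := VS) hVd (a := 𝟙 _) (repWith_of_isIso _) x).symm).trans ?_
      rw [Points.ofPt_eq_map_ofScheme, Points.map_id]
    have key : ∀ x : Pi.left, Points.map ((yon S).map sP) (Points.ofScheme Pi x) = Points.ofScheme V (sP.left x) := fun x => by
      rw [← Points.ofPt_eq_map_ofScheme, ofPt_map]
    haveI : IsIso sP.left := by
      refine isIso_of_integral_birational sP.left hVn (finite_maxPt_chart (X := PS) hPd hPf (a := 𝟙 _) (repWith_of_isIso _))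
        ⟨fun x hx => ?_, fun x hx x' hx' e => ?_, fun y hy => ?_⟩ fun x hx => ?_
      · exact (iffV _).2 (key x ▸ hbir.bijOn.mapsTo ((iffP x).1 hx))
      · exact (Points.schemeEquiv Pi).injective (hbir.bijOn.injOn ((iffP x).1 hx) ((iffP x').1 hx')
          ((key x).trans ((congrArg (Points.ofScheme V) e).trans (key x').symm)))
      · obtain ⟨z, hz, hzy⟩ := hbir.bijOn.surjOn ((iffV y).1 hy)
        obtain ⟨x, rfl⟩ := (Points.schemeEquiv Pi).surjective z
        exact ⟨x, (iffP x).2 hz, (Points.schemeEquiv V).injective ((key x).symm.trans hzy)⟩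
      · obtain ⟨A, A', c, c', g, u, hc, hc', w, hu, hgi⟩ := hbir.stalkIso _ ((iffP x).1 hx)
        exact isIso_stalkMap_transfer (X := PS) (Y := VS) (ObjectProperty.homMk ((yon S).map sP)) hc hc' w
          (a' := 𝟙 _) (b' := 𝟙 _) (repWith_of_isIso _) (repWith_of_isIso _) (g' := sP)
          ((Category.id_comp _).trans (Category.comp_id _).symm)
          (by rw [hu, Points.ofPt_eq_map_ofScheme, Points.map_id]) hgi
    have hcond : fP ≫ f.hom = (yon S).map (sP ≫ iV) ≫ a := by rw [sqP.w, Functor.map_comp, Category.assoc]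
    obtain ⟨l, hl⟩ := (yon S).map_surjective (sq.lift fP ((yon S).map (sP ≫ iV)) hcond)
    have hl₁ : (yon S).map l ≫ p = fP := hl ▸ sq.lift_fst _ _ _
    have hl₂ : (yon S).map l ≫ (yon S).map q = (yon S).map sP ≫ (yon S).map iV := by
      rw [hl, sq.lift_snd, Functor.map_comp]
    have sqi : IsPullback ((yon S).map l) ((yon S).map sP) ((yon S).map q) ((yon S).map iV) :=
      IsPullback.of_right (h₁₂ := p) (by rw [hl₁]; exact sqP) hl₂ sq
    have sqs := (IsPullback.of_map (yon S) ((yon S).map_injective (by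
      rw [Functor.map_comp, Functor.map_comp]; exact sqi.w)) sqi).map (Over.forget S)
    show IsIso (pullback.snd q.left (U.left.affineCover.f i))
    rw [show pullback.snd q.left (U.left.affineCover.f i) = sqs.isoPullback.inv ≫ sP.left from
      sqs.isoPullback_inv_snd.symm]
    infer_instance
  haveI : IsIso ((Over.forget S).map q) := ‹IsIso q.left›
  haveI : IsIso q := isIso_of_reflects_iso q (Over.forget S)
  exact isIso_of_pullback_epi f.hom hae has sq

end Groth.L09.Birat
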