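import Groth.Agent.L09.Birat.Iso
import Groth.Agent.L23.Compact
import Groth.Agent.L23.MorCalc
import Groth.Agent.L23.Refined

/-!
# Isomorphisms over dense opens of the target
-/

universe u

open CategoryTheory CategoryTheory.Limits AlgebraicGeometry Opposite AlgSp Topology

set_option autoImplicit false
set_option linter.style.haveILetI false
set_option backward.isDefEq.respectTransparency false
set_option backward.isDefEq.respectTransparency.types false

namespace Groth.L09.Birat

open Groth.L23 W4stk3decentspacesp2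

variable {S : Scheme.{u}} {X Y : AlgSp.Space S}

/-- A dense open set contains every maximal point when there are finitely many. -/
theorem mem_of_dense {A : Type*} [TopologicalSpace A] [T0Space A] [QuasiSober A]
    (hfin : (irreducibleComponents A).Finite) {O : Set A} (hO : IsOpen O) (hd : Dense O) {x : A} (hx : IsMaxPt x) :
    x ∈ O := by
  have hf : {x : A | IsMaxPt x}.Finite := (genericPoints.finite hfin).subset fun x hx => (isMaxPt_iff x).1 hx
  let C : Set A := ⋃ y ∈ ({y : A | IsMaxPt y} \ {x}), closure {y}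
  have hC : IsClosed C := (hf.subset Set.sdiff_subset).isClosed_biUnion fun _ _ => isClosed_closure
  have hxC : x ∉ C := by
    intro hxC
    obtain ⟨y, ⟨hy, hne⟩, hxy⟩ := Set.mem_iUnion₂.1 hxC
    exact hne (hx y (specializes_iff_mem_closure.2 hxy))
  obtain ⟨z, hzC, hz⟩ := dense_iff_inter_open.1 hd _ hC.isOpen_compl ⟨x, hxC⟩
  obtain ⟨y, hy, hyz⟩ := exists_isMaxPt z
  have hyx : y = x := by
    by_contra hne
    exact hzC (Set.mem_iUnion₂.2 ⟨y, ⟨hy, hne⟩, hyz.mem_closure⟩)
  exact hyx ▸ hyz.mem_open hO hz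

theorem isClosed_range_section {F : Sp S} {T : Over S} {p : F ⟶ (yon S).obj T} (hp : IsSeparatedMor p)
    (s : (yon S).obj T ⟶ F) (hs : s ≫ p = 𝟙 _) : IsClosed (Set.range (Points.map s)) := by
  have sq : IsPullback s s (pullback.diagonal p) (pullback.lift (p ≫ s) (𝟙 F) (by rw [Category.assoc, hs]; simp)) := by
    refine IsPullback.mk' ?_ (fun W φ φ' h₁ _ => ?_) fun W a b e => ?_
    · apply pullback.hom_ext
      · simp [reassoc_of% hs]
      · simp
    · have := congrArg (· ≫ p) h₁
      simpa [Category.assoc, hs] using this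
    · have e₁ : a = b ≫ p ≫ s := by simpa using congrArg (· ≫ pullback.fst p p) e
      have e₂ : a = b := by simpa using congrArg (· ≫ pullback.snd p p) e
      subst e₂
      exact ⟨a ≫ p, by rw [Category.assoc]; exact e₁.symm, by rw [Category.assoc]; exact e₁.symm⟩
  have hc := repWith_of_isPullback sq hp
  exact (isClosedMap_map_of_representable hc.1 fun U g => by
    haveI : IsClosedImmersion (hc.1.snd g).left := repWith_snd hc g
    exact (hc.1.snd g).left.isClosedEmbedding.isClosedMap).isClosed_range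

theorem exists_nhd_preimage (f : X ⟶ Y) (hX : IsDecent X.obj) (hY : IsDecent Y.obj)
    (hXf : (irreducibleComponents (Points X.obj)).Finite) (hYf : (irreducibleComponents (Points Y.obj)).Finite)
    (hf : IsBirational f.hom) (h₁ : IsQuasiCompactMor f.hom ∨ IsSeparatedMor f.hom)
    (h₂ : (LocP @LocallyOfFiniteType f.hom ∧ EtaleLocally (fun T => IsReduced T) Y.obj) ∨
      LocP @LocallyOfFinitePresentation f.hom) {y : Points Y.obj} (hy : IsMaxPt y) :
    ∃ N : Set (Points Y.obj), IsOpen N ∧ y ∈ N ∧ (∀ p ∈ N, SL.SchemePt p) ∧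
      ∀ z, Points.map f.hom z ∈ N → SL.SchemePt z := by
  obtain ⟨Y0, X0, b0, a0, g0, hb0, ha0, hmY, hw, hr, hmX, hbij, hiso⟩ := exists_model_max f hX hY hXf hYf hf
  obtain ⟨η, rfl⟩ := hmY y hy
  have hsch : ∀ p ∈ Set.range (Points.ofPt b0), SL.SchemePt p := fun _ ⟨t, ht⟩ => ⟨Y0, b0, t, hb0, ht⟩
  rcases h₁ with hq | hsep
  · obtain ⟨_, ⟨V, hV, rfl⟩, hηV, -⟩ := Y0.left.isBasis_affineOpens.exists_subset_of_mem_open
      (Set.mem_univ η) isOpen_univ
    change Y0.left.Opens at V
    let Vo : Over S := Over.mk (V.ι ≫ Y0.hom)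
    haveI : IsAffine Vo.left := hV
    let iV : Vo ⟶ Y0 := Over.homMk V.ι rfl
    let bV : (yon S).obj Vo ⟶ Y.obj := (yon S).map iV ≫ b0
    have sq := IsPullback.of_hasPullback f.hom bV
    haveI : CompactSpace Vo.left := inferInstance
    obtain ⟨R, s, c, hc, hcs⟩ := exists_affine_atlas (hq (IsAlgSpace.yon_obj Vo)
      ((qcSp_iff (IsAlgSpace.yon_obj Vo)).2 (Points.schemeHomeo Vo).compactSpace) bV _ _ sq)
    let W : Over S := Over.mk s
    haveI : IsAffine W.left := inferInstanceAs (IsAffine (Spec R))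
    obtain ⟨h, hh⟩ := (yon S).map_surjective (c ≫ pullback.snd f.hom bV)
    haveI : QuasiCompact h.left := (HasAffineProperty.iff_of_isAffine (P := @QuasiCompact)).2 inferInstance
    let Z : Set W.left := {w | Points.ofPt (c ≫ pullback.fst f.hom bV) w ∉ Set.range (Points.ofPt a0)}
    have key : ∀ w, Points.map f.hom (Points.ofPt (c ≫ pullback.fst f.hom bV) w) = Points.ofPt b0 (h.left w).1 := fun w => by
      rw [Points.map_ofPt, Category.assoc, sq.w, ← Category.assoc, ← hh, ofPt_comp]
      exact ofPt_comp _ _ _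
    obtain ⟨N, hηN, hN⟩ := Groth.L19.GenericIso.exists_nhd_avoid h.left (η := (⟨η, hηV⟩ : Vo.left)) (Z := Z)
      (((isOpen_range_ofPt ha0).preimage (Points.continuous_ofPt _)).isClosed_compl) fun w hw' hs => by
      have hs' : Points.map f.hom (Points.ofPt (c ≫ pullback.fst f.hom bV) w) ⤳ Points.ofPt b0 η := by
        rw [key]
        exact ((hs.map V.ι.continuous).map (Points.continuous_ofPt b0))
      obtain ⟨ξ, -, -, e⟩ := fibre_eq f hX hY hb0 ha0 g0 hw (fun x hx _ => hmX x hx) hbij hiso hy hs'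
      exact hw' ⟨ξ, e.symm⟩
    refine ⟨Points.ofPt b0 '' (Subtype.val '' (N : Set Vo.left)), ?_, ⟨η, ⟨⟨η, hηV⟩, hηN, rfl⟩, rfl⟩,
      fun p ⟨t, _, ht⟩ => hsch p ⟨t, ht⟩, ?_⟩
    · exact isOpenMap_ofPt (repWith_etale_of_open hb0) _ (V.2.isOpenMap_subtype_val _ N.2)
    · rintro z ⟨_, ⟨t, ht, rfl⟩, hz⟩
      have hz' : Points.map f.hom z = Points.ofPt bV t :=
        hz.symm.trans (ofPt_comp iV b0 t).symm
      obtain ⟨q, hq₁, hq₂⟩ := exists_of_isPullback sq z (Points.ofScheme Vo t) (by
        rw [hz']; exact Points.ofPt_eq_map_ofScheme _ _)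
      obtain ⟨w, rfl⟩ := surjective_ofPt hcs q
      have hwt : h.left w = t := (Points.schemeEquiv Vo).injective (by
        refine Eq.trans ?_ hq₂
        show Points.ofScheme Vo (h.left w) = _
        rw [Points.map_ofPt, ← hh, ofPt_map])
      have hzw : Points.ofPt (c ≫ pullback.fst f.hom bV) w ∈ Set.range (Points.ofPt a0) := by
        by_contra hc'
        exact hN w hc' (hwt.symm ▸ ht)
      obtain ⟨r, hr'⟩ := hzw
      exact ⟨X0, a0, r, ha0, by rw [hr', ← Points.map_ofPt, hq₁]⟩
  · obtain ⟨U, a, ha, haf, hUX, hUY⟩ := exists_dense_open_isIso f hX hY hXf hYf hf h₂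
    let C : Set (Points Y.obj) := ⋃ p ∈ ({p : Points Y.obj | IsMaxPt p} \ {Points.ofPt b0 η}), closure {p}
    have hC : IsClosed C := ((finite_maxPt hY hYf).subset Set.sdiff_subset).isClosed_biUnion fun _ _ => isClosed_closure
    let N : Set (Points Y.obj) := (Set.range (Points.ofPt (a ≫ f.hom)) \ C) ∩ Set.range (Points.ofPt b0)
    have hNo : IsOpen N := ((isOpen_range_ofPt haf).sdiff hC).inter (isOpen_range_ofPt hb0)
    have hyN : Points.ofPt b0 η ∈ N := ⟨⟨hUY _ hy, fun hc => by
      obtain ⟨p, ⟨hp, hne⟩, hyp⟩ := Set.mem_iUnion₂.1 hc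
      exact hne (hy p (specializes_iff_mem_closure.2 hyp))⟩, ⟨η, rfl⟩⟩
    refine ⟨N, hNo, hyN, fun p hp => hsch p hp.2, fun z hz => ?_⟩
    obtain ⟨D, d, hd, hrd⟩ := exists_openScheme Y N hNo fun p hp => hsch p hp.2
    obtain ⟨m, hm⟩ := exists_factor_yon haf d (fun t => (hrd.le ⟨t, rfl⟩).1.1)
    have sq := IsPullback.of_hasPullback f.hom d
    let sec : (yon S).obj D ⟶ pullback f.hom d := pullback.lift ((yon S).map m ≫ a) (𝟙 _)
      (by rw [Category.assoc, hm, Category.id_comp])
    have hcl := isClosed_range_section (separated_of_isPullback sq hsep) sec (pullback.lift_snd _ _ _)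
    obtain ⟨t, ht⟩ := hrd.ge hz
    obtain ⟨q, hq₁, hq₂⟩ := exists_of_isPullback sq z (Points.ofScheme D t) (by
      rw [← ht]; exact Points.ofPt_eq_map_ofScheme _ _)
    obtain ⟨x, hx, hxz⟩ := exists_maxPt hX z
    have hfx : Points.map f.hom x = Points.ofPt b0 η := by
      have hmax : IsMaxPt (Points.map f.hom x) := (maxPt_iff hY _).2 (hf.bijOn.mapsTo ((maxPt_iff hX x).1 hx))
      by_contra hne
      exact hz.1.2 (Set.mem_iUnion₂.2 ⟨_, ⟨hmax, hne⟩, (hxz.map (Points.continuous_map f.hom)).mem_closure⟩)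
    have hP : IsAlgSpace (pullback f.hom d) :=
      isAlgSpace_of_isPullback Y.property.diag X.property (IsAlgSpace.yon_obj D) sq
    let PS : AlgSp.Space S := ⟨pullback f.hom d, hP⟩
    let pr : PS ⟶ X := ObjectProperty.homMk (pullback.fst f.hom d)
    have hpr : RepWith @IsOpenImmersion (pullback.fst f.hom d) := repWith_of_isPullback sq.flip hd
    obtain ⟨q', hq', hq'q⟩ : ∃ q', Points.map (pullback.fst f.hom d) q' = x ∧ q' ⤳ q := by
      obtain ⟨t', ht'⟩ := hrd.ge (show Points.map f.hom x ∈ N from hfx ▸ hyN)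
      obtain ⟨q', hq', -⟩ := exists_of_isPullback sq x (Points.ofScheme D t') (by
        rw [← ht']; exact Points.ofPt_eq_map_ofScheme _ _)
      exact ⟨q', hq', (isEmbedding_map_of_immersion X.property (repWith_mono (fun φ (_ : IsOpenImmersion φ) =>
        inferInstanceAs (IsImmersion φ)) hpr)).1.isInducing.specializes_iff.1 (by rw [hq', hq₁]; exact hxz)⟩
    have hinj := (isEmbedding_map_of_immersion X.property (repWith_mono (fun φ (_ : IsOpenImmersion φ) =>
        inferInstanceAs (IsImmersion φ)) hpr)).1.injective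
    have hmem : q' ∈ Set.range (Points.map sec) := by
      obtain ⟨u, hu⟩ := hUX x hx
      obtain ⟨t', ht'⟩ := hrd.ge (show Points.map f.hom x ∈ N from hfx ▸ hyN)
      refine ⟨Points.ofScheme D t', hinj ?_⟩
      rw [hq', ← Points.map_comp, pullback.lift_fst, ← Points.ofPt_eq_map_ofScheme, ofPt_comp, ← hu]
      refine congrArg _ (injective_ofPt haf ?_)
      rw [← ofPt_comp, hm, ht', ← hu, Points.map_ofPt]
    obtain ⟨p, hp⟩ := hq'q.mem_closed hcl hmem
    obtain ⟨t', rfl⟩ := (Points.schemeEquiv D).surjective p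
    refine ⟨U, a, m.left t', ha, ?_⟩
    rw [← hq₁, ← hp, ← Points.map_comp, pullback.lift_fst]
    exact (ofPt_comp m a t').symm.trans (Points.ofPt_eq_map_ofScheme _ _)

theorem exists_dense_open_isIso_pullback (f : X ⟶ Y) (hX : IsDecent X.obj) (hY : IsDecent Y.obj)
    (hXf : (irreducibleComponents (Points X.obj)).Finite) (hYf : (irreducibleComponents (Points Y.obj)).Finite)
    (hf : IsBirational f.hom) (h₁ : IsQuasiCompactMor f.hom ∨ IsSeparatedMor f.hom)
    (h₂ : (LocP @LocallyOfFiniteType f.hom ∧ EtaleLocally (fun T => IsReduced T) Y.obj) ∨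
      LocP @LocallyOfFinitePresentation f.hom) :
    ∃ (V : Over S) (b : (yon S).obj V ⟶ Y.obj), RepWith @IsOpenImmersion b ∧
      Dense (Set.range (Points.ofPt b)) ∧
        ∀ ⦃P : Sp S⦄ (fst : P ⟶ X.obj) (snd : P ⟶ (yon S).obj V), IsPullback fst snd f.hom b → IsIso snd := by
  choose N hNo hyN hNs hNp using fun (y : {y : Points Y.obj // IsMaxPt y}) =>
    exists_nhd_preimage f hX hY hXf hYf hf h₁ h₂ y.2
  obtain ⟨Y1, b1, hb1, hr1⟩ := exists_openScheme Y (⋃ y, N y) (isOpen_iUnion hNo) fun p hp => by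
    obtain ⟨y, hy⟩ := Set.mem_iUnion.1 hp
    exact hNs y p hy
  obtain ⟨X1, a1, g1, ha1, hw, hr, hm, hbij, hiso⟩ := exists_model f hX hY hXf hf hb1
  have hfull : Points.map f.hom ⁻¹' Set.range (Points.ofPt b1) ⊆ Set.range (Points.ofPt a1) := fun z hz => by
    rw [hr]
    obtain ⟨y, hy⟩ := Set.mem_iUnion.1 (hr1.le hz)
    exact ⟨hNp y z hy, hz⟩
  have hrange : ∀ {T : Over S} (m : T ⟶ Y1) {P : Sp S} {fst : P ⟶ X.obj} {snd : P ⟶ (yon S).obj T},
      IsPullback fst snd f.hom ((yon S).map m ≫ b1) → Set.range (Points.map fst) ⊆ Set.range (Points.ofPt a1) := by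
    rintro T m P fst snd hP _ ⟨p, rfl⟩
    refine hfull ?_
    obtain ⟨t, ht⟩ := (Points.schemeEquiv T).surjective (Points.map snd p)
    refine ⟨m.left t, ?_⟩
    rw [← Points.map_comp, hP.w, Points.map_comp, ← ht]
    exact (ofPt_comp _ _ _).symm.trans (Points.ofPt_eq_map_ofScheme _ _)
  have sq1 : IsPullback a1 ((yon S).map g1) f.hom b1 := by
    have sqP := IsPullback.of_hasPullback f.hom ((yon S).map (𝟙 Y1) ≫ b1)
    obtain ⟨l, hl, sql⟩ := isPullback_of_range f ha1 hb1 hw (𝟙 Y1) sqP (hrange _ sqP)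
    haveI : IsIso l := sql.isIso_fst_of_isIso
    refine sqP.of_iso (asIso l) (Iso.refl _) (Iso.refl _) (Iso.refl _) (by simp [hl]) ?_ (by simp) (by simp)
    simpa using sql.w.symm
  have hqs : QuasiCompact g1.left ∨ IsSeparated g1.left := by
    rcases h₁ with hq | hsep
    · refine .inl ((quasiCompact_iff_forall_isAffineOpen).2 fun V hV => ?_)
      let Vo : Over S := Over.mk (V.ι ≫ Y1.hom)
      haveI : IsAffine Vo.left := hV
      haveI : CompactSpace Vo.left := inferInstance
      obtain ⟨R, p, q, sqR⟩ := exists_isPullback_of_representable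
        ((IsAlgSpace.yon_obj Y1).representable_from_yon ((yon S).map g1))
        ((yon S).map (Over.homMk V.ι rfl : Vo ⟶ Y1))
      have hc := compactSpace_of_qcSp (hq (IsAlgSpace.yon_obj Vo)
        ((qcSp_iff (IsAlgSpace.yon_obj Vo)).2 (Points.schemeHomeo Vo).compactSpace) _ _ _ (sqR.paste_horiz sq1))
      haveI : CompactSpace R.left := (Points.schemeHomeo R).symm.compactSpace
      have e : Set.range p.left = g1.left ⁻¹' (V : Set Y1.left) := by
        ext x
        constructor
        · rintro ⟨r, rfl⟩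
          have := congrArg (fun φ : R ⟶ Y1 => φ.left r) ((yon S).map_injective (by
            rw [Functor.map_comp, Functor.map_comp]; exact sqR.w) : p ≫ g1 = q ≫ _)
          show g1.left (p.left r) ∈ V
          rw [show g1.left (p.left r) = (q.left r).1 from this]
          exact (q.left r).2
        · intro hx
          obtain ⟨r, hr₁, -⟩ := exists_point_of_isPullback sqR (x := Points.ofScheme X1 x) (u := (⟨g1.left x, hx⟩ : Vo.left)) (by
            rw [← Points.ofPt_eq_map_ofScheme, ofPt_map, ofPt_map]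
            rfl)
          exact ⟨r, (Points.schemeEquiv X1).injective ((ofPt_map p r).symm.trans hr₁)⟩
      show IsCompact (g1.left ⁻¹' (V : Set Y1.left))
      rw [← e]
      exact isCompact_range p.left.continuous
    · exact .inr ((repWith_yon_map_iff _ _).1 ((isSeparatedMor_iff
        ((IsAlgSpace.yon_obj Y1).representable_from_yon _)).1 (separated_of_isPullback sq1 hsep)))
  obtain ⟨hlft, hh⟩ := hf_model f h₂ hb1 ha1 hw
  haveI := hlft
  obtain ⟨O, hO, hOi⟩ := Groth.L19.GenericIso.exists_dense_open_restrict g1.left hbij hiso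
    (finite_maxPt_chart hX hXf ha1) (finite_maxPt_chart hY hYf hb1) hqs hh
  let V : Over S := Over.mk (O.ι ≫ Y1.hom)
  let i : V ⟶ Y1 := Over.homMk O.ι rfl
  refine ⟨V, (yon S).map i ≫ b1,
    repWith_comp ((repWith_yon_map_iff _ _).2 (inferInstanceAs (IsOpenImmersion O.ι))) hb1,
    dense_of_maxPt hY fun y hy => ?_, fun P fst snd hP => ?_⟩
  · obtain ⟨t, rfl⟩ := hr1.ge (Set.mem_iUnion.2 ⟨⟨y, hy⟩, hyN _⟩)
    exact ⟨⟨t, mem_of_dense (finite_maxPt_chart hY hYf hb1) O.2 hO
      ((maxPt_chart_iff hY (repWith_etale_of_open hb1) t).1 hy)⟩, ofPt_comp _ _ _⟩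
  · obtain ⟨l, -, sql⟩ := isPullback_of_range f ha1 hb1 hw i hP (hrange i hP)
    obtain ⟨R, p, q, sqR⟩ := exists_isPullback_of_representable
      ((IsAlgSpace.yon_obj Y1).representable_from_yon ((yon S).map g1)) ((yon S).map i)
    have sqO : IsPullback p q g1 i := IsPullback.of_map (yon S)
      ((yon S).map_injective (by rw [Functor.map_comp, Functor.map_comp]; exact sqR.w)) sqR
    have sqL := sqO.map (Over.forget S)
    haveI := hOi
    haveI : IsIso (pullback.snd g1.left O.ι) := by
      rw [← pullbackRestrictIsoRestrict_hom_morphismRestrict]; infer_instance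
    haveI : IsIso q.left := by
      rw [show q.left = sqL.isoPullback.hom ≫ pullback.snd g1.left O.ι from sqL.isoPullback_hom_snd.symm]
      infer_instance
    haveI : IsIso ((Over.forget S).map q) := ‹IsIso q.left›
    haveI : IsIso q := isIso_of_reflects_iso q (Over.forget S)
    rw [← sql.isoIsPullback_hom_snd _ _ sqR]
    infer_instance

end Groth.L09.Birat
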